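import Cfsg.Agent.Lib.SE.NB2
import Cfsg.Agent.Lib.ZL.SEB

/-!
# Strongly embedded subgroups: subgroups, quotients, one class of involutions
-/

set_option autoImplicit false

namespace Cfsg.Agent.SE

open Subgroup Cfsg.Agent.OO Cfsg.Agent.ZL Cfsg.Agent.R1
open scoped Pointwise

universe u

variable {G : Type u} [Group G] {G' : Type u} [Group G'] {H M N X : Subgroup G} {s t : G}

theorem ne_one_of_two (h : orderOf t = 2) : t ≠ 1 := fun e => by simp [e] at h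

theorem sq_of_two (h : orderOf t = 2) : t * t = 1 := by rw [← sq, ← h, pow_orderOf_eq_one]

theorem isPGroup_zp (h : t * t = 1) : IsPGroup 2 (zpowers t) :=
  abelem_isPGroup (abelem_zpowers (by rw [sq, h]))

theorem ab2_of_injective (h : Ab2 G') (f : G →* G') (hf : Function.Injective f) : Ab2 G :=
  fun P hP => ab_iff.2 fun a ha b hb => hf (by
    rw [map_mul, map_mul]
    exact ab_iff.1 (h _ (hP.map f)) _ (mem_map_of_mem f ha) _ (mem_map_of_mem f hb))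

theorem ab2_sub (h : Ab2 G) (H : Subgroup G) : Ab2 H := ab2_of_injective h _ H.subtype_injective

variable [Finite G]

theorem two_dvd (ht : t ∈ H) (t1 : t ≠ 1) (t2 : t * t = 1) : 2 ∣ ♯H :=
  GW.orderOf_eq_two t2 t1 ▸ OO.orderOf_dvd_card ht

theorem exists_inv (h : 2 ∣ ♯H) : ∃ t ∈ H, t ≠ 1 ∧ t * t = 1 :=
  let ⟨t, ht, e⟩ := cauchy Nat.prime_two h
  ⟨t, ht, ne_one_of_two e, sq_of_two e⟩

theorem ab2_of_surjective (h : Ab2 G) {f : G →* G'} (hf : Function.Surjective f) : Ab2 G' :=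
  fun P hP => by
    haveI := Finite.of_surjective f hf
    obtain ⟨Q, hQ⟩ := hP.exists_le_sylow
    obtain ⟨R, rfl⟩ := Sylow.mapSurjective_surjective hf 2 Q
    exact ab_of_le (ab_map (h _ R.2) f) hQ

theorem lift_inv {f : G →* G'} (hf : Function.Surjective f) (ho : Odd ♯f.ker) {y : G'}
    (hy : y * y = 1) : ∃ x, f x = y ∧ x * x = 1 := by
  obtain ⟨x, rfl⟩ := hf y
  obtain ⟨k, hk⟩ := ho
  refine ⟨x ^ ♯f.ker, ?_, ?_⟩
  · rw [hk, pow_succ, pow_mul, map_mul, map_pow, map_pow, sq, hy, one_pow, one_mul]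
  · rw [← (Commute.refl x).mul_pow]
    exact orderOf_dvd_iff_pow_eq_one.1 (OO.orderOf_dvd_card (H := f.ker) (by simpa using hy))

theorem map_ne_one {f : G →* G'} (ho : Odd ♯f.ker) (t1 : t ≠ 1) (t2 : t * t = 1) : f t ≠ 1 :=
  GW.not_mem_of_odd ho t1 t2

theorem se_mem (h : SE M) (ht : t ∈ M) (t1 : t ≠ 1) (t2 : t * t = 1) {g : G}
    (hg : g * t * g⁻¹ ∈ M) : g ∈ M := h.mem ht (GW.orderOf_eq_two t2 t1) hg

theorem se_cent (h : SE M) (ht : t ∈ M) (t1 : t ≠ 1) (t2 : t * t = 1) : 𝐂[t] ≤ M :=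
  h.cent_le ht (GW.orderOf_eq_two t2 t1)

theorem se_of_mem (h1 : M ≠ ⊤) (h2 : 2 ∣ ♯M)
    (h : ∀ t ∈ M, t ≠ 1 → t * t = 1 → ∀ g, g * t * g⁻¹ ∈ M → g ∈ M) : SE M :=
  ⟨h1, h2, fun g hg e => by
    obtain ⟨t, ht, t1, t2⟩ := exists_inv e
    exact hg (inv_mem_iff.1 (h t ht.1 t1 t2 g⁻¹ (by rw [inv_inv]; exact mem_conj.1 ht.2)))⟩

theorem se_sub (h : SE M) (h2 : 2 ∣ ♯(M ⊓ H)) (hH : ¬ H ≤ M) : SE (M.subgroupOf H) :=
  se_of_mem (fun e => hH (subgroupOf_eq_top.1 e))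
    (by rwa [← card_map_of_injective H.subtype_injective, subgroupOf_map_subtype])
    fun t ht t1 t2 _ hg => se_mem h ht (by simpa using t1) (congrArg Subtype.val t2) hg

theorem se_map [Finite G'] (h : SE M) {f : G →* G'} (hf : Function.Surjective f) (ho : Odd ♯f.ker)
    (hk : f.ker ≤ M) : SE (M.map f) := by
  have key : ∀ x, f x ∈ M.map f → x ∈ M := fun x hx => by
    rwa [← mem_comap, comap_map_eq_self hk] at hx
  refine se_of_mem (fun e => h.ne (eq_top_iff.2 fun x _ => key x (e ▸ mem_top _))) ?_ ?_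
  · obtain ⟨t, ht, t1, t2⟩ := exists_inv h.even
    exact two_dvd (mem_map_of_mem f ht) (map_ne_one ho t1 t2) (by rw [← map_mul, t2, map_one])
  · intro t ht t1 t2 g hg
    obtain ⟨t, rfl, t3⟩ := lift_inv hf ho t2
    obtain ⟨g, rfl⟩ := hf g
    exact mem_map_of_mem f (se_mem h (key t ht) (fun e => t1 (by simp [e])) t3
      (key _ (by simpa using hg)))

theorem se_conj_le (h : SE M) (hM : M ≤ H) (hX : X ≤ H) (h2 : IsPGroup 2 X) :
    ∃ g ∈ H, g •ᶜ X ≤ M := by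
  obtain ⟨S, hS⟩ := exists_syl 2 M
  obtain ⟨g, hg, e⟩ := (((h.syl hS).hall.mono (hS.le.trans hM) le_top).syl).exists_conj_le hX h2
  exact ⟨g, hg, e.trans hS.le⟩

theorem se_ge (h : SE M) (hM : M ≤ H) (hH : H ≠ ⊤) : SE H :=
  se_of_mem hH (h.even.trans (card_dvd hM)) fun t ht t1 t2 g hg => by
    obtain ⟨a, ha, e1⟩ := se_conj_le h hM (zpowers_le.2 ht) (isPGroup_zp t2)
    obtain ⟨b, hb, e2⟩ := se_conj_le h hM (zpowers_le.2 hg) (isPGroup_zp (GW.conj_sq t2 g))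
    have := se_mem h (e1 (conj_mem_conj (mem_zpowers t))) (conj_ne_one.2 t1) (GW.conj_sq t2 a)
      (g := b * g * a⁻¹) (by
        convert e2 (conj_mem_conj (mem_zpowers _)) using 1
        group)
    have := mul_mem (mul_mem (inv_mem hb) (hM this)) ha
    rwa [show b⁻¹ * (b * g * a⁻¹) * a = g by group] at this

theorem se_conj (h : SE M) (g : G) : SE (g •ᶜ M) :=
  se_of_mem (fun e => h.ne (conj_eq_top_iff.1 e)) (by rw [card_conj]; exact h.even)
    fun t ht t1 t2 x hx => mem_conj.2 (se_mem h (mem_conj.1 ht) (conj_ne_one'.2 t1)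
      (by simpa using GW.conj_sq t2 g⁻¹) (by
        convert mem_conj.1 hx using 1
        group))

theorem se_class_in (h : SE M) (hs : s ∈ M) (s1 : s ≠ 1) (s2 : s * s = 1) (ht : t ∈ M) (t1 : t ≠ 1)
    (t2 : t * t = 1) : ∃ g ∈ M, g * s * g⁻¹ = t := by
  obtain ⟨w, hw, w2⟩ := h.exists_out
  obtain ⟨k, hk, -, e⟩ := h.exists_conj hw w2 hs (GW.orderOf_eq_two s2 s1) ht
    (GW.orderOf_eq_two t2 t1)
  exact ⟨k, hk.1, e⟩

theorem se_class (h : SE M) (s1 : s ≠ 1) (s2 : s * s = 1) (t1 : t ≠ 1) (t2 : t * t = 1) :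
    ∃ g, g * s * g⁻¹ = t := by
  obtain ⟨a, -, e1⟩ := se_conj_le h le_top le_top (isPGroup_zp s2)
  obtain ⟨b, -, e2⟩ := se_conj_le h le_top le_top (isPGroup_zp t2)
  obtain ⟨k, -, e⟩ := se_class_in h (e1 (conj_mem_conj (mem_zpowers s))) (conj_ne_one.2 s1)
    (GW.conj_sq s2 a) (e2 (conj_mem_conj (mem_zpowers t))) (conj_ne_one.2 t1) (GW.conj_sq t2 b)
  exact ⟨b⁻¹ * k * a, by
    rw [show b⁻¹ * k * a * s * (b⁻¹ * k * a)⁻¹ = b⁻¹ * (k * (a * s * a⁻¹) * k⁻¹) * b by group, e]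
    group⟩

/-- a subgroup that meets `M` in a group of even order lies in `M` or has one class of
involutions -/
theorem se_le_of_not_conj (h : SE M) (hs : s ∈ H) (hM : s ∈ M) (s1 : s ≠ 1) (s2 : s * s = 1)
    (ht : t ∈ H) (t1 : t ≠ 1) (t2 : t * t = 1) (hc : ∀ g ∈ H, g * s * g⁻¹ ≠ t) : H ≤ M := by
  by_contra hH
  obtain ⟨g, e⟩ := se_class (se_sub h (two_dvd (mem_inf.2 ⟨hM, hs⟩) s1 s2) hH) (s := ⟨s, hs⟩)
    (t := ⟨t, ht⟩) (by simpa using s1) (Subtype.ext s2) (by simpa using t1) (Subtype.ext t2)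
  exact hc g g.2 (congrArg Subtype.val e)

/-- an involution swapping `M` with a given conjugate -/
theorem se_swap (h : SE M) {g : G} (hg : g ∉ M) :
    ∃ w ∉ M, w * w = 1 ∧ w •ᶜ M = g •ᶜ M := by
  obtain ⟨s, hs, s1, s2⟩ := exists_inv h.even
  obtain ⟨w, hw, w2, e⟩ := h.exists_swap hs (GW.orderOf_eq_two s2 s1)
    (fun e => hg (se_mem h hs s1 s2 e)) (GW.orderOf_eq_two (GW.conj_sq s2 g) (conj_ne_one.2 s1))
  refine ⟨w, hw, sq_of_two w2, ?_⟩
  have : g⁻¹ * w ∈ M := se_mem h hs s1 s2 (by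
    rw [show g⁻¹ * w * s * (g⁻¹ * w)⁻¹ = g⁻¹ * (w * s * w⁻¹) * g by group, e]
    simpa [mul_assoc] using hs)
  rw [← mul_inv_cancel_left g w, ← conj_conj, conj_eq_of_mem this]

theorem eq_bot_of_sol (hN : Core.IsMinNormal N) (hs : ¬ Sol N) {K : Subgroup G} (hK : K ⊴ N)
    (h : Sol K) : K = ⊥ := by
  by_contra e
  haveI := normalIn_top.1 ((normalIn_top.2 hN.normal).Fit)
  have := hN.eq_of_le (Fit_le N) fun e' => Fit_inf_ne_bot hK h e (by rw [e', bot_inf_eq])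
  exact hs (sol_of_nil (this ▸ Fit_nil N))

/-- groups with abelian Sylow `2`-subgroups, one class of involutions and no odd normal subgroup -/
theorem sol_or_simple (h2 : Ab2 G) (hO : ∀ N : Subgroup G, N.Normal → Odd ♯N → N = ⊥)
    (hc : ∀ s t : G, s ≠ 1 → s * s = 1 → t ≠ 1 → t * t = 1 → ∃ g, g * s * g⁻¹ = t) :
    Group.IsSolvable G ∨ ∃ L : Subgroup G, L.Normal ∧ IsSimpleGroup L ∧ ¬ Ab L ∧
      ∀ t : G, t * t = 1 → t ∈ L := by
  rcases subsingleton_or_nontrivial G with _ | _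
  · exact .inl inferInstance
  obtain ⟨N, hN⟩ := Core.exists_isMinNormal (G := G)
  haveI := hN.normal
  obtain ⟨s, hs, s1, s2⟩ := exists_inv (H := N)
    (even_iff_two_dvd.1 (Nat.not_odd_iff_even.1 fun e => hN.ne_bot (hO N this e)))
  have hall : ∀ t : G, t * t = 1 → t ∈ N := fun t t2 => by
    by_cases t1 : t = 1
    · exact t1 ▸ one_mem N
    · obtain ⟨g, rfl⟩ := hc s t s1 s2 t1 t2
      exact this.conj_mem s hs g
  by_cases hsol : Sol N
  · left
    have hE := hN.isElementaryAbelian_of_dvd hsol (two_dvd hs s1 s2)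
    obtain ⟨S, hS, hNS⟩ := exists_syl_ge (le_top (a := N)) (abelem_isPGroup hE)
    have hSC : S ≤ 𝐂(N) := (Ab.le_cent (h2 S hS.isPGroup)).trans (cent_anti hNS)
    have h3 : Odd ♯(der 𝐂(N)) := GW.odd_of_forall fun z hz z2 =>
      GW.eq_one_of_mem_Zc (h2 S hS.isPGroup) (mem_Zc.2 ⟨der_le _ hz, fun y hy =>
        (mem_cent_iff.1 hy z (hall z z2)).symm⟩) hz (by
          by_cases z1 : z = 1
          · simp [z1]
          · rw [GW.orderOf_eq_two z2 z1]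
            exact Nat.prime_two.coprime_iff_not_dvd.2 (hS.hall.mono hSC le_top).syl.not_dvd)
    have h4 : Sol 𝐂(N) := by
      have h5 := hO _ (normalIn_top.1 (normalIn_top.2 (inferInstance : (𝐂(N)).Normal)).der) h3
      exact sol_of_ab (ab_iff_der.2 h5)
    have h5 : Group.IsSolvable (G ⧸ 𝐂(N)) := Feit_Thompson (Nat.odd_iff.2 (by
      have : ¬ 2 ∣ 𝐂(N).index := fun e =>
        hS.not_dvd (dvd_trans e (by rw [relIndex_top_right]; exact index_dvd_of_le hSC))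
      rw [← index_eq_card]
      omega))
    exact solvable_of_ker_le_range (𝐂(N)).subtype (QuotientGroup.mk' 𝐂(N)) (by simp)
  · refine .inr ⟨N, this, GW.Smp.isSimpleGroup (fun K₀ hK₀ => ?_) hN.ne_bot,
      fun e => hsol (sol_of_ab e), hall⟩
    refine or_iff_not_imp_left.2 fun h0 => ?_
    obtain ⟨K, hK, hle⟩ := exists_minNormalBy h0 hK₀.norm
    have hKN : K ⊴ N := ⟨hle.trans hK₀.le, hK.norm⟩
    have hcj : ∀ g, (g •ᶜ K) ⊴ N := fun g => by
      have := hKN.conj g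
      rwa [(normalIn_top.2 hN.normal).conj_eq (mem_top g)] at this
    have hor : ∀ g, g •ᶜ K ≠ K → K ⊓ g •ᶜ K = ⊥ := fun g e =>
      hK.inf_eq_bot_of_not_le (hcj g).norm fun e' =>
        e (eq_of_le_of_card_le e' (card_conj g K).le).symm
    have hce : ∀ g, g •ᶜ K ≠ K → g •ᶜ K ≤ 𝐂(K) := fun g e => le_cent_symm
      (le_cent_of_inf_eq_bot (hKN.le.trans (hcj g).norm) ((hcj g).le.trans hKN.norm) (hor g e))
    obtain ⟨v, hv, v1, v2⟩ := exists_inv (H := K) (even_iff_two_dvd.1 (Nat.not_odd_iff_even.1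
      fun e => hK.ne_bot (eq_bot_of_sol hN hsol hKN (GW.sol_of_odd e))))
    have hn : ∀ g, g •ᶜ K = K := fun g => by_contra fun e => by
      have h1 : g * v * g⁻¹ ∈ g •ᶜ K := conj_mem_conj hv
      have h3 := mem_cent_iff.1 (hce g e h1) v hv
      have h4 : g * v * g⁻¹ ∉ K := fun e' =>
        conj_ne_one.2 v1 (mem_bot.1 (hor g e ▸ mem_inf.2 ⟨e', h1⟩))
      obtain ⟨k, hk⟩ := hc v (v * (g * v * g⁻¹)) v1 v2
        (fun e' => h4 (by rw [eq_inv_of_mul_eq_one_right e']; exact inv_mem hv)) (by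
          rw [mul_assoc, ← mul_assoc _ v, ← h3, mul_assoc v, GW.conj_sq v2, mul_one, v2])
      have h5 : v * (g * v * g⁻¹) ∈ k •ᶜ K := hk ▸ conj_mem_conj hv
      by_cases e' : k •ᶜ K = K
      · exact h4 ((K.mul_mem_cancel_left hv).1 (e' ▸ h5))
      · have h6 := ((𝐂(K)).mul_mem_cancel_right (hce g e h1)).1 (hce k e' h5)
        exact v1 (mem_bot.1 (eq_bot_of_sol hN hsol hKN.Zc (sol_of_ab (Zc_ab K)) ▸
          mem_inf.2 ⟨hv, h6⟩))
    haveI : K.Normal := ⟨fun x hx g => hn g ▸ conj_mem_conj hx⟩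
    exact hK₀.le.antisymm (hN.eq_of_le hKN.le hK.ne_bot ▸ hle)

end Cfsg.Agent.SE
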