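import Cfsg.Agent.Lib.SE.NB1
import Cfsg.Agent.Lib.GW.Bender
import Cfsg.Agent.Lib.Core.FixCount
import Cfsg.Agent.Lib.Core.Ord1092

/-!
# No group of odd order is transitive on the involutions: groups of order `175560`
-/

set_option autoImplicit false

namespace Cfsg.Agent.SE

open Subgroup Cfsg.Agent.OO MulAction
open scoped Pointwise MatrixGroups

universe u

variable {G : Type u} [Group G]

theorem dvd_ncard_conj {E : Subgroup G} {S : Set G} (hS : ∀ e ∈ E, ∀ a ∈ S, e * a * e⁻¹ ∈ S)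
    (hf : ∀ e ∈ E, ∀ a ∈ S, e * a * e⁻¹ = a → e = 1) : ♯E ∣ S.ncard :=
  @dvd_ncard_of_free G G _ (MulAction.compHom G (MulAut.conj : G →* MulAut G)) E S hS hf

theorem smp_of_simple {L : Subgroup G} (h : IsSimpleGroup L) : GW.Smp L := fun N hN =>
  hN.subgroupOf.eq_bot_or_eq_top.imp
    (fun e => by rwa [subgroupOf_eq_bot, disjoint_iff, inf_eq_left.2 hN.le] at e)
    fun e => hN.le.antisymm (subgroupOf_eq_top.1 e)

variable [Finite G]

theorem le_of_prime_order {L Y : Subgroup G} (h : GW.Smp L) {p : ℕ} (hp : p.Prime) (hd : p ∣ ♯L)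
    (hY : ∀ x ∈ L, orderOf x = p → x ∈ Y) : L ≤ Y := by
  haveI := Fact.mk hp
  rw [← (h _ (Ohm_normal p L)).resolve_left (Ohm_ne_bot_of_dvd hp hd)]
  refine Ohm_le_iff.2 fun x hx e => ?_
  by_cases x1 : x = 1
  · exact x1 ▸ one_mem Y
  · exact hY x hx (orderOf_eq_prime e x1)

theorem fix_five (hG : Nat.card G ∣ 120) {β : MulAut G} {r : ℕ} (hr : r.Prime) (h7 : 7 ≤ r)
    (hβ : β ^ r = 1) {y : G} (hy : orderOf y = 5) : β y = y := by
  haveI : Fact (Nat.Prime 5) := ⟨by norm_num⟩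
  obtain ⟨P, hP⟩ := (isPGroup_of_card_prime_pow (n := 1)
    (by rw [Nat.card_zpowers, hy, pow_one]) : IsPGroup 5 (zpowers y)).exists_le_sylow
  have h1 : Nat.card (Sylow 5 G) ≤ 6 := by
    have h2 := (P.card_dvd_index.trans (index_dvd_card _)).trans hG
    have h3 : _ % 5 = 1 := card_sylow_modEq_one 5 G
    have h4 := Nat.le_of_dvd (by norm_num) h2
    generalize Nat.card (Sylow 5 G) = n at *
    interval_cases n <;> omega
  have h2 : β • P = P := smul_eq_of_small hr hβ Set.finite_univ (fun _ _ => trivial)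
    (by rw [Set.ncard_univ]; omega) trivial
  refine smul_eq_of_small (S := (P : Subgroup G)) hr hβ (Set.toFinite _) (fun a ha => ?_) ?_
    (zpowers_le.1 hP)
  · rw [← h2, Sylow.pointwise_smul_def]
    exact smul_mem_pointwise_smul _ _ _ ha
  · obtain ⟨k, hk⟩ := P.2.exists_card_eq
    have h3 := (card_subgroup_dvd_card (P : Subgroup G)).trans hG
    rw [← Nat.card_coe_set_eq, SetLike.coe_sort_coe, hk]
    rw [hk] at h3
    have : k ≤ 1 := by_contra fun h => by
      have := (pow_dvd_pow 5 (show 2 ≤ k by omega)).trans h3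
      omega
    interval_cases k <;> omega

theorem fix_five' {K : Subgroup G} (hK : ♯K ∣ 120) {α : MulAut G} {r : ℕ} (hr : r.Prime)
    (h7 : 7 ≤ r) (hα : α ^ r = 1) (h : α • K = K) {y : G} (hyK : y ∈ K) (hy : orderOf y = 5) :
    α y = y := by
  have h1 : ∀ a : zpowers α, ∀ w ∈ K, (zpowers α).subtype a w ∈ K := fun a w hw => by
    have := mem_stabilizer_iff.1 (zpowers_le.2 (mem_stabilizer_iff.2 h) a.2)
    rw [← this]
    exact smul_mem_pointwise_smul _ _ _ hw
  have := fix_five (β := Core.resAutHom _ K h1 ⟨α, mem_zpowers α⟩) hK hr h7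
    (by rw [← map_pow, show (⟨α, mem_zpowers α⟩ : zpowers α) ^ r = 1 from Subtype.ext hα, map_one])
    (y := ⟨y, hyK⟩) (by rw [← orderOf_coe, hy])
  exact congrArg Subtype.val this

variable {t : G} {H L : Subgroup G} {F : Type} [Field F] [Fintype F] (h : R1.JRs t H L F)
include h

omit [Finite G] in
theorem jr_simple : IsSimpleGroup L := by
  obtain ⟨e⟩ := h.iso
  haveI := Matrix.ProjectiveSpecialLinearGroup.rank_two_simple (F := F)
    (by have := h.five; rw [Nat.card_eq_fintype_card]; omega)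
  exact e.isSimpleGroup

omit [Finite G] in
theorem jr_le_cent : H ≤ 𝐂[t] := fun _ hx => mem_cent1.2 ((h.cent _).2 (.inl hx))

theorem jr_card_cent : ♯𝐂[t] = 2 * ♯H := by
  have h1 : 𝐂[t] = zpowers t ⊔ H := le_antisymm (fun g hg => by
    rcases (h.cent g).1 (mem_cent1.1 hg) with e | e
    · exact mem_sup_right e
    · rw [show g = g * t * t by rw [mul_assoc, h.t2, mul_one]]
      exact mul_mem (mem_sup_right e) (mem_sup_left (mem_zpowers t)))
    (sup_le (zpowers_le.2 (mem_cent1_self t)) (jr_le_cent h))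
  rw [h1, card_sup_of_inf_eq_bot (.inl (le_norm_of_le_cent (zpowers_le.2
    (le_cent1_iff.1 (jr_le_cent h))))), Nat.card_zpowers, GW.orderOf_eq_two h.t2 h.t1]
  refine eq_bot_iff.2 fun x hx => ?_
  rcases (GW.mem_zp h.t2).1 hx.1 with rfl | rfl
  · exact one_mem _
  · exact (h.tH hx.2).elim

variable (h5 : Fintype.card F = 5) (hG : Nat.card G = 175560)
include h5

omit [Finite G] in
theorem j1_card : ♯L = 60 := by
  obtain ⟨e⟩ := h.iso
  have := CIT.card_PSL2 (two_ne_zero_of_mod h.mod)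
  rw [h5, ← Nat.card_congr e.toEquiv] at this
  omega

include hG

theorem j1_eq : H = L := by
  have h1 := card_mul_relIndex h.le
  have h2 := card_subgroup_dvd_card 𝐂[t]
  rw [jr_card_cent h, ← h1, j1_card h h5, hG] at h2
  refine (h.le.antisymm (relIndex_eq_one.1 (by_contra fun e => ?_))).symm
  obtain ⟨r, hr, hd⟩ := Nat.exists_prime_and_dvd e
  have h3 : r ∣ 1463 := hd.trans (Nat.dvd_of_mul_dvd_mul_left (show 0 < 120 by norm_num)
    (by rwa [← mul_assoc] at h2))
  have h7 : 7 ≤ r := by_contra fun h7 => by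
    have := hr.two_le
    interval_cases r <;> omega
  obtain ⟨x, hx, ho⟩ := cauchy hr (hd.trans (Dvd.intro_left _ h1))
  have h4 : L ≤ 𝐂[x] := le_of_prime_order (smp_of_simple (jr_simple h)) (p := 5) (by norm_num)
    (by rw [j1_card h h5]; norm_num) fun y hy h5' => mem_cent1_comm.1 (mem_cent1_iff_conj.2
      (fix_five' (K := L) (α := MulAut.conj x) (by rw [j1_card h h5]; norm_num) hr h7
        (by rw [← map_pow, ← ho, pow_orderOf_eq_one, map_one])
        (conj_eq_of_mem_norm (h.norm hx)) hy h5'))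
  have : x = 1 := mem_bot.1 (h.centL ▸ ⟨hx, le_cent1_iff.1 h4⟩)
  rw [this, orderOf_one] at ho
  omega

theorem j1_cent : ♯𝐂[t] = 120 := by rw [jr_card_cent h, j1_eq h h5 hG, j1_card h h5]

theorem j1_index : 𝐂[t].index = 1463 := by
  have := 𝐂[t].card_mul_index
  rw [j1_cent h h5 hG, hG] at this
  omega

theorem j1_inv : {w : G | w ≠ 1 ∧ w * w = 1}.ncard = 1463 := by
  rw [← j1_index h h5 hG, ← relIndex_top_right, ← GW.ncard_conj]
  congr 1
  ext w
  refine ⟨fun hw => ?_, ?_⟩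
  · obtain ⟨g, e⟩ := isConj_iff.1 (h.conj w hw.1 hw.2).symm
    exact ⟨g, trivial, e⟩
  · rintro ⟨g, -, rfl⟩
    exact ⟨conj_ne_one.2 h.t1, GW.conj_sq h.t2 g⟩

variable {E : Subgroup G} (hE : IsElementaryAbelian 2 E) (h8 : 8 ≤ ♯E)
include hE h8

theorem j1_syl : ∃ P : Sylow 2 G, t ∈ (P : Subgroup G) ∧ IsElementaryAbelian 2 (P : Subgroup G) ∧
    ♯(P : Subgroup G) = 8 := by
  obtain ⟨P, hP⟩ := (abelem_isPGroup hE).exists_le_sylow
  have h1 : ♯(P : Subgroup G) ≤ 8 := by
    obtain ⟨k, hk⟩ := P.2.exists_card_eq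
    have h3 := card_subgroup_dvd_card (P : Subgroup G)
    rw [hk, hG] at h3
    have : k ≤ 3 := by_contra fun h => by
      have := (pow_dvd_pow 2 (show 4 ≤ k by omega)).trans h3
      omega
    rw [hk]
    interval_cases k <;> omega
  have h2 := eq_of_le_of_card_le hP (h1.trans h8)
  obtain ⟨a, ha, a1⟩ := exists_mem_ne_one (H := E) fun e => by simp [e] at h8
  obtain ⟨g, e⟩ := isConj_iff.1 (h.conj a a1 (by rw [← sq]; exact hE.2 a ha))
  refine ⟨g • P, e ▸ conj_mem_conj (hP ha), abelem_conj.2 (h2 ▸ hE), ?_⟩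
  exact (card_conj g _).trans (h1.antisymm (h2 ▸ h8))

theorem j1_aut {α : MulAut G} {r : ℕ} (hr : r.Prime) (h7 : 7 ≤ r) (hα : α ^ r = 1)
    (ht : α t = t) : α = 1 := by
  have hc := j1_cent h h5 hG
  have hL := smp_of_simple (jr_simple h)
  have hLC := h.le.trans (jr_le_cent h)
  have h1 : L ≤ Core.autFix α := le_of_prime_order hL (p := 5) (by norm_num)
    (by rw [j1_card h h5]; norm_num) fun y hy h5' =>
      fix_five' hc.dvd hr h7 hα (by rw [aut_smul_cent, ht]) (hLC hy) h5'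
  have h2 : 𝐂[t] ≤ Core.autFix α := fun g hg => by
    rcases (h.cent g).1 (mem_cent1.1 hg) with e | e <;> rw [j1_eq h h5 hG] at e
    · exact h1 e
    · rw [show g = g * t * t by rw [mul_assoc, h.t2, mul_one]]
      exact mul_mem (h1 e) ht
  obtain ⟨P, htP, hP, hP8⟩ := j1_syl h h5 hG hE h8
  have hPC : (P : Subgroup G) ≤ 𝐂[t] := (abelem_le_cent hP).trans (cent_le_cent1 htP)
  have h3 : 𝐍((P : Subgroup G)) ≤ Core.autFix α := fun n hn => by
    have e1 : n⁻¹ * α n ∈ 𝐂[t] := by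
      have e2 : α (n * t * n⁻¹) = n * t * n⁻¹ := h2 (hPC (conj_mem_of_norm hn htP))
      rw [map_mul, map_mul, map_inv, ht] at e2
      rw [mem_cent1_iff_conj, mul_inv_rev, inv_inv, show n⁻¹ * α n * t * ((α n)⁻¹ * n) =
        n⁻¹ * (α n * t * (α n)⁻¹) * n by group, e2]
      group
    have e2 : ∀ k : ℕ, (α ^ k) n = n * (n⁻¹ * α n) ^ k := fun k => by
      induction k with
      | zero => simp
      | succ k ih =>
        rw [pow_succ', MulAut.mul_apply, ih, map_mul, Core.mem_autFix.1 (h2 (pow_mem e1 k)), pow_succ',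
          ← mul_assoc, mul_inv_cancel_left]
    have e3 := e2 r
    rw [hα, MulAut.one_apply, left_eq_mul] at e3
    have e4 := Nat.eq_one_of_dvd_coprimes (a := r) (b := 120) ((hr.coprime_iff_not_dvd).2 fun e => by
      have := (Nat.Prime.dvd_mul hr).1 (show r ∣ 2 ^ 3 * (3 * 5) from e)
      rcases this with e | e
      · have := Nat.le_of_dvd two_pos (hr.dvd_of_dvd_pow e); omega
      · rcases (Nat.Prime.dvd_mul hr).1 e with e | e <;>
          have := Nat.le_of_dvd (by norm_num) e <;> omega)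
      (orderOf_dvd_of_pow_eq_one e3) (hc ▸ OO.orderOf_dvd_card e1)
    exact (inv_mul_eq_one.1 (orderOf_eq_one_iff.1 e4)).symm
  have h4 : ∀ s ∈ (P : Subgroup G), s ≠ 1 → ∃ n ∈ Core.autFix α, n * t * n⁻¹ = s := fun s hs s1 => by
    obtain ⟨g, e⟩ := isConj_iff.1 (h.conj s s1 (by rw [← sq]; exact hP.2 s hs)).symm
    haveI := abelem_ab hP
    obtain ⟨n, hn, e'⟩ := P.conj_eq_normalizer_conj_of_mem t g⁻¹ htP (by rwa [inv_inv, e])
    exact ⟨n⁻¹, inv_mem (h3 hn), by rw [inv_inv, ← e', inv_inv, e]⟩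
  have hS : Syl 2 (P : Subgroup G) (Core.autFix α) := ⟨hPC.trans h2, P.2, fun e =>
    P.not_dvd_index (e.trans (relIndex_dvd_index_of_le (hPC.trans h2)))⟩
  have h6 : {w : G | w ≠ 1 ∧ w * w = 1} ∩ Core.autFix α =
      (fun x => x * t * x⁻¹) '' Core.autFix α := by
    ext w
    refine ⟨fun hw => ?_, ?_⟩
    · obtain ⟨g, hg, e⟩ := hS.exists_conj_le (zpowers_le.2 hw.2)
        (abelem_isPGroup (abelem_zpowers (by rw [sq, hw.1.2])))
      obtain ⟨n, hn, e'⟩ := h4 _ (e (conj_mem_conj (mem_zpowers w))) (conj_ne_one.2 hw.1.1)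
      refine ⟨g⁻¹ * n, mul_mem (inv_mem hg) hn, ?_⟩
      show g⁻¹ * n * t * (g⁻¹ * n)⁻¹ = w
      rw [show g⁻¹ * n * t * (g⁻¹ * n)⁻¹ = g⁻¹ * (n * t * n⁻¹) * g by group, e']
      group
    · rintro ⟨g, hg, rfl⟩
      exact ⟨⟨conj_ne_one.2 h.t1, GW.conj_sq h.t2 g⟩,
        mul_mem (mul_mem hg (h2 (mem_cent1_self t))) (inv_mem hg)⟩
  have h9 := dvd_ncard_conj (E := P) (S := {w : G | w ≠ 1 ∧ w * w = 1} \ Core.autFix α)
    (fun e he w hw => ⟨⟨conj_ne_one.2 hw.1.1, GW.conj_sq hw.1.2 e⟩, fun e' => hw.2 (by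
      have := mul_mem (mul_mem (inv_mem (hS.le he)) e') (hS.le he)
      rwa [show e⁻¹ * (e * w * e⁻¹) * e = w by group] at this)⟩)
    fun e he w hw e' => by_contra fun e1 => by
      obtain ⟨n, hn, rfl⟩ := h4 e he e1
      refine hw.2 (conj_le_of_mem hn h2 ?_)
      rw [← cent1_conj]
      exact mem_cent1_comm.1 (mem_cent1_iff_conj.2 e')
  have h10 := Set.ncard_inter_add_ncard_diff_eq_ncard {w : G | w ≠ 1 ∧ w * w = 1} (Core.autFix α)
  have h11 := relIndex_mul_index h2
  have h12 := congrArg Set.ncard h6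
  rw [j1_inv h h5 hG] at h10
  rw [j1_index h h5 hG] at h11
  rw [GW.ncard_conj] at h12
  rw [hP8] at h9
  have h13 : 𝐂[t].relIndex (Core.autFix α) = 7 ∨ 𝐂[t].relIndex (Core.autFix α) = 1463 := by
    have e1 : ∀ n ∈ Nat.divisors 1463, n % 8 = 7 → n = 7 ∨ n = 1463 := by decide +kernel
    exact e1 _ (Nat.mem_divisors.2 ⟨Dvd.intro _ h11, by norm_num⟩) (by omega)
  rcases h13 with e | e
  · have e1 : sharp (P : Subgroup G) = {w : G | w ≠ 1 ∧ w * w = 1} ∩ Core.autFix α :=
      Set.eq_of_subset_of_ncard_le (fun s hs => ⟨⟨hs.2, by rw [← sq]; exact hP.2 s hs.1⟩, hS.le hs.1⟩)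
        (by rw [ncard_sharp, hP8]; omega)
    have e2 : L ≤ P := le_of_prime_order hL Nat.prime_two (by rw [j1_card h h5]; norm_num)
      fun x hx ho => (e1.symm ▸ ⟨⟨fun e => by simp [e] at ho, by rw [← sq, ← ho, pow_orderOf_eq_one]⟩,
        h1 hx⟩ : x ∈ sharp (P : Subgroup G)).1
    have := card_le e2
    rw [j1_card h h5] at this
    omega
  · have e1 : Core.autFix α = ⊤ := index_eq_one.1 (by rw [e] at h11; omega)
    exact MulEquiv.ext fun x => (e1 ▸ mem_top x : x ∈ Core.autFix α)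

omit hE h8 in
theorem j1_no_sub {K : Subgroup G} : ♯K ≠ 1463 := fun hK => by
  haveI : Fact (Nat.Prime 7) := ⟨by norm_num⟩
  have hs := h.simple
  obtain ⟨P, hP⟩ := exists_syl 7 K
  have h1 : ♯P = 7 := by
    obtain ⟨k, hk⟩ := hP.isPGroup.exists_card_eq
    have h2 := card_dvd hP.le
    have h3 := hP.dvd_card_iff.2 (by rw [hK]; norm_num)
    rw [hk, hK] at *
    have : k ≤ 1 := by_contra fun h => by
      have := (pow_dvd_pow 7 (show 2 ≤ k by omega)).trans h2
      omega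
    interval_cases k <;> omega
  have h2 : K ≤ 𝐍(P) := by
    obtain ⟨n, e1, e2⟩ := Ord1092.exists_count hP
    obtain ⟨k, e3⟩ := card_dvd (le_inf (le_norm_self P) hP.le)
    have e4 : ∀ n ∈ Nat.divisors 209, n % 7 = 1 → n = 1 := by decide +kernel
    rw [e3, h1, hK, mul_assoc] at e2
    rw [e4 n (Nat.mem_divisors.2 ⟨Dvd.intro_left k (by omega), by norm_num⟩) e1] at e2
    exact inf_eq_right.1 (eq_of_le_of_card_le inf_le_right (by rw [e3, h1]; omega))
  have h3 : Syl 7 P ⊤ := ⟨le_top, hP.isPGroup, by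
    have := P.card_mul_index
    rw [h1, hG] at this
    rw [relIndex_top_right]
    omega⟩
  obtain ⟨n, e1, e2⟩ := Ord1092.exists_count h3
  obtain ⟨k, e3⟩ := card_dvd h2
  have e5 := 𝐍(P).card_mul_index
  rw [inf_top_eq, card_top, ← e5] at e2
  obtain rfl := Nat.eq_of_mul_eq_mul_left (card_pos' _) e2
  have e4 : ∀ n ∈ Nat.divisors 120, n % 7 = 1 → n = 1 ∨ n = 8 ∨ n = 15 ∨ n = 120 := by
    decide +kernel
  have hN : 𝐍(P) ≠ ⊤ := GW.Smp.norm_ne_top GW.smp_top (fun e => by simp [e] at h1) fun e => by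
    rw [e, card_top] at h1
    omega
  have e6 := card_dvd_factorial hs hN
  rw [e3, hK, hG, mul_assoc] at e5
  rcases e4 _ (Nat.mem_divisors.2 ⟨Dvd.intro_left k (by omega), by norm_num⟩) e1 with e | e | e | e
  · exact hN (index_eq_one.1 e)
  · rw [e, hG] at e6
    norm_num [Nat.factorial] at e6
  · rw [e, hG] at e6
    norm_num [Nat.factorial] at e6
  · have e7 := Ord1092.relIndex_cent_dvd (isCyclic_of_prime (H := P) (by rw [h1]; norm_num))
    have e8 := relIndex_dvd_card 𝐂(P) 𝐍(P)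
    rw [e] at e5
    rw [e3, hK, show k = 1 by omega] at e8
    rw [h1, Nat.totient_prime (by norm_num)] at e7
    have h4 := Burnside_normal_complement h3 (inf_le_right.trans (relIndex_eq_one.1
      (Nat.eq_one_of_dvd_coprimes (by norm_num) e7 e8)))
    rcases GW.smp_top _ h4.normal with e | e
    · have := h4.sup_eq
      rw [e, bot_sup_eq] at this
      rw [this, card_top] at h1
      omega
    · have := h4.inf_eq
      rw [e, top_inf_eq] at this
      simp [this] at h1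

theorem nb_j1 {D : Subgroup (MulAut G)} (hD : Odd ♯D) (tr : TrI D) : False := by
  have hs := h.simple
  obtain ⟨X, hX⟩ := exists_hall {7, 11, 19} (GW.sol_of_odd hD)
  have h1 : 1463 ∣ ♯D := by
    have e1 := card_inf_mul_relIndex (stabilizer (MulAut G) t) D
    have e2 : {b | ∃ d ∈ D, d • t = b} = {w : G | w ≠ 1 ∧ w * w = 1} := by
      ext w
      refine ⟨?_, fun hw => tr t w h.t1 h.t2 hw.1 hw.2⟩
      rintro ⟨d, -, rfl⟩
      exact ⟨by simpa using h.t1, by rw [← smul_mul', h.t2, smul_one]⟩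
    rw [relIndex_stabilizer, e2, j1_inv h h5 hG] at e1
    exact Dvd.intro_left _ e1
  have h2 : ∀ r, r.Prime → r ∈ ({7, 11, 19} : Set ℕ) → r ∣ ♯X := fun r hr hπ =>
    (hX.dvd_card_iff hr hπ).2 (Dvd.dvd.trans (by rcases hπ with rfl | rfl | rfl <;> norm_num) h1)
  have h3 : 7 * 11 * 19 ∣ ♯X := Nat.Coprime.mul_dvd_of_dvd_of_dvd (by norm_num)
    (Nat.Coprime.mul_dvd_of_dvd_of_dvd (by norm_num) (h2 7 (by norm_num) (by simp))
      (h2 11 (by norm_num) (by simp))) (h2 19 (by norm_num) (by simp))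
  have h4 : IsProd (stabilizer (MulAut G) t) (MulAut.conj : G →* MulAut G).range ⊤ :=
    IsProd.symm (IsProd.of_forall le_top le_top fun α _ => by
      obtain ⟨g, e⟩ := isConj_iff.1 (h.conj (α t) (by simpa using h.t1)
        (by rw [← map_mul, h.t2, map_one])).symm
      refine ⟨_, ⟨g, rfl⟩, (MulAut.conj g)⁻¹ * α, ?_, mul_inv_cancel_left _ _⟩
      show (MulAut.conj g)⁻¹ (α t) = t
      rw [← e]
      simp [mul_assoc])
  have h6 : X ≤ (MulAut.conj : G →* MulAut G).range := by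
    refine hX.piGrp.le_of_relIndex le_top (le_norm_iff.2 ?_) fun r hr hd hπ => ?_
    · rintro α - _ ⟨g, rfl⟩
      exact ⟨α g, by ext; simp⟩
    · rw [h4.relIndex_eq] at hd
      obtain ⟨α, hα, ho⟩ := cauchy hr (hd.trans (relIndex_dvd_card _ _))
      rw [j1_aut h h5 hG hE h8 hr (by rcases hπ with rfl | rfl | rfl <;> norm_num)
        (ho ▸ pow_orderOf_eq_one α) hα, orderOf_one] at ho
      exact hr.one_lt.ne ho
  have h7 : Function.Injective (MulAut.conj : G →* MulAut G) := by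
    refine (MonoidHom.ker_eq_bot_iff _).1
      ((inferInstance : (MulAut.conj : G →* MulAut G).ker.Normal).eq_bot_or_eq_top.resolve_right
        fun e => ?_)
    have e1 := j1_index h h5 hG
    rw [show 𝐂[t] = ⊤ from eq_top_iff.2 fun g _ => mem_cent1_iff_conj.2
      (congrArg (fun α : MulAut G => α t) (MonoidHom.mem_ker.1 (e ▸ mem_top g :
        g ∈ (MulAut.conj : G →* MulAut G).ker))), index_top] at e1
    omega
  have h9 := card_map_of_injective (K := X.comap MulAut.conj) h7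
  rw [map_comap_eq_self h6] at h9
  obtain ⟨j, hj⟩ := h3
  have h10 := card_subgroup_dvd_card (X.comap (MulAut.conj : G →* MulAut G))
  refine j1_no_sub h h5 hG (K := X.comap MulAut.conj) ?_
  rw [← h9, hj, hG] at h10
  rw [← h9, hj, show j = 1 from by_contra fun e => ?_]
  obtain ⟨r, hr, hd⟩ := Nat.exists_prime_and_dvd e
  have e1 := hd.trans (Nat.dvd_of_mul_dvd_mul_left (show 0 < 7 * 11 * 19 by norm_num)
    (show 7 * 11 * 19 * j ∣ 7 * 11 * 19 * 120 from h10))
  rcases hX.piGrp r hr (hj ▸ hd.mul_left _) with rfl | rfl | rfl <;> omega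

omit h h5 hG hE h8 in
/-- no group of odd order acts transitively on the involutions of a simple `A*`-group of `2`-rank at
least `3` -/
theorem nb (jr : R1.JR.{u}) (hs : IsSimpleGroup G) (hA : R1.AStar G) (hE : IsElementaryAbelian 2 E)
    (h8 : 8 ≤ ♯E) {D : Subgroup (MulAut G)} (hD : Odd ♯D) (tr : TrI D) : False := by
  rcases hA with ⟨n, -, ⟨e⟩⟩ | ⟨F, _, _, -, hF, ⟨e⟩⟩ | ⟨t, H, L, F, _, _, h⟩
  · obtain ⟨a, ha, a1⟩ := exists_mem_ne_one (H := E) fun e => by simp [e] at h8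
    have a2 : a * a = 1 := by rw [← sq]; exact hE.2 a ha
    refine nb_ca (BSW.ca2_SL2.of_injective (e.trans BSW.pslEquiv).toMonoidHom
      (e.trans BSW.pslEquiv).injective) hs (fun hc => ?_) a1 a2 hD tr
    rcases (inferInstance : (zpowers a).Normal).eq_bot_or_eq_top with e | e
    · exact a1 (zpowers_eq_bot.1 e)
    · have := card_le (e ▸ le_top : E ≤ zpowers a)
      rw [Nat.card_zpowers, GW.orderOf_eq_two a2 a1] at this
      omega
  · exact not_eight_dvd hF (Nat.card_congr e.toEquiv ▸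
      (eight_dvd hE h8).trans (card_subgroup_dvd_card E))
  · rcases jr G t H L F h with ⟨h5, hG⟩ | ⟨k, -, hk, h1, h2⟩
    · exact nb_j1 h h5 hG hE h8 hD tr
    · haveI : Fact (Nat.Prime 3) := ⟨Nat.prime_three⟩
      refine nb_ree hs h.t1 h.t2 h.conj hE h8 ?_ h2 hD tr
      have : 3 ^ (2 * k + 1) % 8 = 3 := by
        rw [pow_succ, pow_mul, Nat.mul_mod, Nat.pow_mod]
        norm_num
      rw [h1, hk, Nat.add_mod, Nat.pow_mod, this]

end Cfsg.Agent.SE
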