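import Cfsg.Agent.Lib.SE.Basic

/-!
# A strongly embedded subgroup of a minimal simple group with abelian Sylow `2`-subgroups of rank at
least `3` is solvable
-/

set_option autoImplicit false

namespace Cfsg.Agent.SE

open Subgroup Cfsg.Agent.OO Cfsg.Agent.ZL Cfsg.Agent.R1
open scoped Pointwise

universe u

variable {G : Type u} [Group G] [Finite G]

theorem odd_core (G : Type u) [Group G] [Finite G] : Odd ♯(pPrimeCore 2 G) := by
  rw [← Op'_top]
  exact GW.odd_O _

theorem odd_ker (G : Type u) [Group G] [Finite G] :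
    Odd ♯(QuotientGroup.mk' (pPrimeCore 2 G)).ker := by
  rw [QuotientGroup.ker_mk']
  exact odd_core G

theorem eq_bot_of_odd (N : Subgroup (G ⧸ pPrimeCore 2 G)) (hN : N.Normal) (ho : Odd ♯N) : N = ⊥ := by
  have := GW.le_O (normalIn_top.2 hN) ho
  rwa [GW.O, Op'_top, Core.pPrimeCore_quotient_pPrimeCore, le_bot_iff] at this

theorem card_quot_le (N : Subgroup G) : Nat.card (G ⧸ N) ≤ Nat.card G :=
  Nat.le_of_dvd Nat.card_pos (index_dvd_card N)

theorem card_lt_of_ne_top {H : Subgroup G} (h : H ≠ ⊤) : ♯H < Nat.card G :=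
  card_top (G := G) ▸ card_lt (lt_top_iff_ne_top.2 h)

omit [Finite G] in
theorem card_map_eq {G' : Type*} [Group G'] {f : G →* G'} {H : Subgroup G} (h : H ⊓ f.ker = ⊥) :
    ♯(H.map f) = ♯H := by
  rw [Core.card_eq_card_inf_ker_mul H f, h, card_bot, one_mul]

theorem sol (jr : JR.{u}) (G : Type u) [Group G] [Finite G] (M A : Subgroup G)
    (_ : IsSimpleGroup G) (h2 : Ab2 G) (hK : KHyp.{u} (Nat.card G)) (hA : IsElementaryAbelian 2 A)
    (h8 : 8 ≤ Nat.card A) (h : SE M) : Group.IsSolvable M := by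
  obtain ⟨g, -, hg⟩ := se_conj_le h le_top le_top (abelem_isPGroup hA)
  rw [← card_conj g A] at h8
  replace hA := (abelem_conj (g := g)).2 hA
  generalize g •ᶜ A = E at *
  obtain ⟨w, hw, w2⟩ := h.exists_out
  let π := QuotientGroup.mk' (pPrimeCore 2 M)
  have hπ : Function.Surjective π := QuotientGroup.mk'_surjective _
  have key : ∀ s t : M ⧸ pPrimeCore 2 M, s ≠ 1 → s * s = 1 → t ≠ 1 → t * t = 1 →
      ∃ k ∈ ((M ⊓ w •ᶜ M).subgroupOf M).map π, k * s * k⁻¹ = t := fun s t s1 s2 t1 t2 => by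
    obtain ⟨s, rfl, s3⟩ := lift_inv hπ (odd_ker M) s2
    obtain ⟨t, rfl, t3⟩ := lift_inv hπ (odd_ker M) t2
    obtain ⟨k, hk, -, e⟩ := h.exists_conj hw w2 s.2
      (GW.orderOf_eq_two (congrArg Subtype.val s3) fun e => s1 (by rw [show s = 1 from Subtype.ext e, map_one]))
      t.2 (GW.orderOf_eq_two (congrArg Subtype.val t3) fun e => t1 (by rw [show t = 1 from Subtype.ext e, map_one]))
    refine ⟨π ⟨k, hk.1⟩, mem_map_of_mem π hk, ?_⟩
    rw [← map_inv, ← map_mul, ← map_mul]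
    exact congrArg π (Subtype.ext e)
  have h3 := ab2_of_surjective (ab2_sub h2 M) hπ
  rcases sol_or_simple h3 eq_bot_of_odd (fun s t s1 s2 t1 t2 =>
    let ⟨k, _, e⟩ := key s t s1 s2 t1 t2; ⟨k, e⟩) with hs | ⟨L, hL, h4, h5, h6⟩
  · haveI := GW.sol_of_odd (odd_core M)
    exact solvable_of_ker_le_range (pPrimeCore 2 M).subtype π (by simp [π])
  exfalso
  have hE : IsElementaryAbelian 2 ((E.subgroupOf M).map π) :=
    abelem_map (Mod.isElementaryAbelian_subgroupOf hA) π
  have hEL : (E.subgroupOf M).map π ≤ L := fun x hx => h6 x (by rw [← sq]; exact hE.2 x hx)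
  refine nb jr h4 (hK L (((card_le_card_group L).trans (card_quot_le _)).trans_lt
    (card_lt_of_ne_top h.ne)) h4 h5 (ab2_sub h3 L)) (Mod.isElementaryAbelian_subgroupOf hE) ?_
    (D := (((M ⊓ w •ᶜ M).subgroupOf M).map π).map MulAut.conjNormal) ?_ fun s t s1 s2 t1 t2 => ?_
  · rw [Core.card_subgroupOf_of_le hEL, card_map_eq, Core.card_subgroupOf_of_le hg]
    · exact h8
    · exact inf_eq_bot_of_coprime_card (coprime_of_isPGroup
        (abelem_isPGroup (Mod.isElementaryAbelian_subgroupOf hA)) (GW.odd_iff.1 (odd_ker M)))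
  · refine Odd.of_dvd_nat ?_ ((card_map_dvd _ _).trans (card_map_dvd _ _))
    rw [Core.card_subgroupOf_of_le inf_le_left, Nat.odd_iff]
    have := h.odd w hw
    omega
  · obtain ⟨k, hk, e⟩ := key s t (by simpa using s1) (congrArg Subtype.val s2) (by simpa using t1)
      (congrArg Subtype.val t2)
    exact ⟨_, mem_map_of_mem _ hk, Subtype.ext e⟩

end Cfsg.Agent.SE
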