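import Cfsg.Agent.Lib.SE.N2
import Cfsg.Agent.Lib.SE.Sol

/-!
# The strongly embedded case of Walter's theorem: reduction to commuting involutions
-/

set_option autoImplicit false

namespace Cfsg.Agent.SE

open Subgroup Cfsg.Agent.OO Cfsg.Agent.ZL Cfsg.Agent.R1
open scoped Pointwise

universe u

variable {G : Type u} [Group G] [Finite G] {A M : Subgroup G}

theorem comm_inv (hs : IsSimpleGroup G) (h2 : Ab2 G) (hK : KHyp.{u} (Nat.card G))
    (hA : IsElementaryAbelian 2 A) (h8 : 8 ≤ ♯A) (hAM : A ≤ M) (h : SE M) (hm : IsCoatom M)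
    (hsol : Sol M) : ∀ s ∈ M, ∀ t ∈ M, s * s = 1 → t * t = 1 → s * t = t * s := by
  have key : ∀ (p : ℕ) (_ : Fact p.Prime), Ohm 2 M ≤ 𝐂(Op p M) := fun p _ => by
    by_cases p2 : p = 2
    · subst p2
      refine Ohm_le_iff.2 fun t ht t2 => ?_
      obtain ⟨S, hS, e⟩ := exists_syl_ge (zpowers_le.2 ht) (isPGroup_zp (by rwa [← sq]))
      exact cent_anti (Op_le_syl hS) (Ab.le_cent (h2 S hS.isPGroup) (zpowers_le.1 e))
    by_contra hc
    obtain ⟨N, hN⟩ := exists_minN h p2 hc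
    obtain ⟨B, F, t, hB, hF, hBF, hg, ht, t1, t2, hi, h3⟩ := hN.exists_three hA h8 hAM
    refine hN.false ⟨hs, h2, hK, h, hsol, hm, ⟨A, hAM, hA, by omega⟩, p2,
      Nat.not_even_iff_odd.1 fun e => ?_, hB.mono hN.le, hg⟩ hF hBF ht t1 t2 hi h3
    obtain ⟨s, hs, s1, s2⟩ := exists_inv (even_iff_two_dvd.1 e)
    exact hc (Ohm_le_cent h (Op_normal p M).norm (Opi_le _ M hs) s1 s2 (Op'_le_cent_Op p M hs))
  have h1 : ∀ s ∈ M, s * s = 1 → s ∈ Op 2 M := fun s hs s2 => zpowers_le.1 (le_Op_of_le_Fit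
    (isPGroup_zp s2) (zpowers_le.2 (cent_sub_Fitting hsol
      ⟨hs, le_cent_Fit_of_forall key (mem_Ohm hs (by rwa [sq]))⟩)))
  exact fun s hs t ht s2 t2 => ab_iff.1 (h2 _ (Op_isPGroup 2 M)) _ (h1 s hs s2) _ (h1 t ht t2)

/-- strongly embedded subgroups whose involutions commute -/
def SEA : Prop := ∀ (G : Type u) [Group G] [Finite G], IsSimpleGroup G → Ab2 G →
  ∀ M : Subgroup G, SE M → (∀ s ∈ M, ∀ t ∈ M, s * s = 1 → t * t = 1 → s * t = t * s) →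
  (∃ s ∈ M, ∃ t ∈ M, s ≠ 1 ∧ t ≠ 1 ∧ s ≠ t ∧ s * s = 1 ∧ t * t = 1) → ∃ n : ℕ, 2 ≤ n ∧
    Nonempty (G ≃* Matrix.ProjectiveSpecialLinearGroup (Fin 2) (GaloisField 2 n))

theorem sew_of (jr : JR.{u}) (sea : SEA.{u}) : SEW.{u} := fun G _ _ M₀ A hs _ h2 hK hA h8 h => by
  obtain ⟨M, hm, hM⟩ := (eq_top_or_exists_le_coatom M₀).resolve_left h.ne
  replace h := se_ge h hM hm.1
  obtain ⟨g, -, hg⟩ := se_conj_le h le_top le_top (abelem_isPGroup hA)
  have h1 := (abelem_conj (g := g)).2 hA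
  have h3 := card_conj g A ▸ h8
  obtain ⟨s, hs', t, ht, e⟩ := exists_pair h1 (by omega)
  exact sea G hs h2 M h (comm_inv hs h2 hK h1 h3 hg h hm (sol jr G M A hs h2 hK hA h8 h))
    ⟨s, hg hs', t, hg ht, e⟩

end Cfsg.Agent.SE
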