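import Cfsg.Agent.Lib.SE.Sol

/-!
# Known groups with a solvable strongly embedded subgroup containing a four-group
-/

set_option autoImplicit false

namespace Cfsg.Agent.SE

open Subgroup Cfsg.Agent.OO Cfsg.Agent.ZL Cfsg.Agent.R1
open scoped Pointwise MatrixGroups

universe u

theorem real_SL2 {F : Type*} [Field F] [CharP F 2] (x : SL(2, F)) :
    ∃ g : SL(2, F), g * g = 1 ∧ g * x * g⁻¹ = x⁻¹ := by
  have h2 : (2 : F) = 0 := CharP.cast_eq_zero F 2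
  have sq : ∀ y : SL(2, F), y.1.trace = 0 → y * y = 1 := fun y h => by
    by_cases y1 : y = 1
    · rw [y1, one_mul]
    · exact (BSW.trace_eq_zero_iff y1).1 h
  have key : ∀ g : SL(2, F), g.1.trace = 0 → (g.1 * x.1).trace = 0 →
      g * g = 1 ∧ g * x * g⁻¹ = x⁻¹ := fun g h1 h3 => ⟨sq g h1, by
    rw [inv_eq_of_mul_eq_one_right (sq g h1), eq_inv_iff_mul_eq_one, mul_assoc, sq (g * x) h3]⟩
  by_cases hc : x.1 1 0 = 0
  · by_cases hb : x.1 0 1 = 0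
    · refine ⟨⟨!![0, 1; 1, 0], by simp [Matrix.det_fin_two]; linear_combination -h2⟩, key _ ?_ ?_⟩ <;>
        simp [Matrix.trace_fin_two, Matrix.vecMul, dotProduct, hb, hc]
    · refine ⟨⟨!![1, 0; (x.1 0 0 + x.1 1 1) / x.1 0 1, 1], by simp [Matrix.det_fin_two]⟩,
        key _ ?_ ?_⟩ <;> simp [Matrix.trace_fin_two, Matrix.vecMul, dotProduct]
      · linear_combination h2
      · field_simp
        linear_combination (x.1 0 0 + x.1 1 1) * h2
  · refine ⟨⟨!![1, (x.1 0 0 + x.1 1 1) / x.1 1 0; 0, 1], by simp [Matrix.det_fin_two]⟩,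
      key _ ?_ ?_⟩ <;> simp [Matrix.trace_fin_two, Matrix.vecMul, dotProduct]
    · linear_combination h2
    · field_simp
      linear_combination (x.1 0 0 + x.1 1 1) * h2

variable {G : Type u} [Group G] [Finite G] {H M V Y U : Subgroup G} {p : ℕ}

theorem exists_pair (hV : IsElementaryAbelian 2 V) (h4 : 2 < ♯V) :
    ∃ v ∈ V, ∃ w ∈ V, v ≠ 1 ∧ w ≠ 1 ∧ v ≠ w ∧ v * v = 1 ∧ w * w = 1 := by
  obtain ⟨v, hv, v1⟩ := exists_mem_ne_one (H := V) fun e => by simp [e] at h4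
  have v2 : v * v = 1 := by rw [← sq]; exact hV.2 v hv
  obtain ⟨w, hw, h⟩ := SetLike.not_le_iff_exists.1 fun e : V ≤ zpowers v => by
    have := card_le e
    rw [Nat.card_zpowers, GW.orderOf_eq_two v2 v1] at this
    omega
  exact ⟨v, hv, w, hw, v1, fun e => h (e ▸ one_mem _), fun e => h (e ▸ mem_zpowers v), v2,
    by rw [← sq]; exact hV.2 w hw⟩

theorem O_eq_bot (ui : ∀ x : G, Odd (orderOf x) → x ≠ 1 → ∀ a ∈ 𝐂[x], ∀ b ∈ 𝐂[x], a ≠ 1 →
    a * a = 1 → b ≠ 1 → b * b = 1 → a = b) (h : SE M) (hV : IsElementaryAbelian 2 V) (h4 : 2 < ♯V)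
    (hVM : V ≤ M) : GW.O M = ⊥ := by
  by_contra h0
  obtain ⟨Q, hQ, hn, hQ0, r, -, hr⟩ :=
    exists_norm_abelem (GW.sol_of_odd (GW.odd_O M)) h0 (GW.O_norm M)
  have ho := GW.odd_of_le (GW.odd_O M) hQ
  obtain ⟨a, b, ha, hb, hab⟩ : ∃ a b, a ∈ V ∧ b ∈ V ∧ a ≠ 1 ∧ b ≠ 1 ∧ a ≠ b ∧ a * a = 1 ∧ b * b = 1 :=
    let ⟨a, ha, b, hb, h⟩ := exists_pair hV h4; ⟨a, b, ha, hb, h⟩
  obtain ⟨n, hn'⟩ := exists_isEp_of_abelem hV le_rfl
  obtain ⟨v, hv, v1, e⟩ := Coprime.exists_inf_centralizer_ne_bot (abelem_ab hV)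
    (hn'.not_isCyclic (by_contra fun e => by
      have := hn'.card
      interval_cases n <;> omega)) (hVM.trans hn)
    (coprime_of_isPGroup (abelem_isPGroup hV) (GW.odd_iff.1 ho)) hQ0
  have v2 : v * v = 1 := by rw [← sq]; exact hV.2 v hv
  obtain ⟨x, hx, x1⟩ := exists_mem_ne_one e
  have h1 : Q ≤ 𝐂[v] := fun y hy => mem_cent1_iff_conj.2
    (ui x (GW.odd_of_mem ho hx.1) x1 _ (mul_mem (mul_mem
      (cent_le_cent1 hx.1 (abelem_le_cent hr hy)) (mem_cent1_comm.1 hx.2))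
      (inv_mem (cent_le_cent1 hx.1 (abelem_le_cent hr hy)))) v (mem_cent1_comm.1 hx.2)
      (conj_ne_one.2 v1) (GW.conj_sq v2 y) v1 v2)
  have h2 : ∀ w ∈ V, w ≠ 1 → w * w = 1 → w ∈ 𝐂[x] := fun w hw w1 w2 => by
    obtain ⟨g, hg, rfl⟩ := se_class_in h (hVM hv) v1 v2 (hVM hw) w1 w2
    rw [mem_cent1_comm, cent1_conj]
    exact conj_mono g h1 ((conj_eq_of_mem_norm (hn hg)).symm ▸ hx.1)
  exact hab.2.2.1 (ui x (GW.odd_of_mem ho hx.1) x1 a (h2 a ha hab.1 hab.2.2.2.1) b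
    (h2 b hb hab.2.1 hab.2.2.2.2) hab.1 hab.2.2.2.1 hab.2.1 hab.2.2.2.2)

theorem syl_Op_two (h2 : Ab2 G) (hs : Sol M) (h0 : GW.O M = ⊥) : Syl 2 (Op 2 M) M := by
  obtain ⟨S, hS⟩ := exists_syl 2 M
  have : S ≤ Op 2 M := (le_inf hS.le ((Ab.le_cent (h2 S hS.isPGroup)).trans
    (cent_anti (Op_le_syl hS)))).trans (cent_Op_le_of_Op'_eq_bot hs h0)
  rwa [← this.antisymm (Op_le_syl hS)]

theorem k0 (h2 : Ab2 G) (hs : IsSimpleGroup G) (hna : ¬ IsMulCommutative G) (hA : AStar G)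
    (h : SE M) (hsol : Sol M) (hV : IsElementaryAbelian 2 V) (h4 : 2 < ♯V) (hVM : V ≤ M) :
    ∃ m, ♯(Op 2 M) = 2 ^ m ∧ M.index = 1 + 2 ^ m ∧ 1 ≤ m ∧
      ∀ x : G, ∃ g, g * g = 1 ∧ g * x * g⁻¹ = x⁻¹ := by
  have key : GW.O M = ⊥ ∧ (Syl 2 (Op 2 M) M → ∀ v ∈ Op 2 M, v ≠ 1 → v * v = 1 → 𝐂[v] ≤ Op 2 M) := by
    rcases hA with ⟨n, -, ⟨e⟩⟩ | ⟨F, _, _, -, hF, ⟨e⟩⟩ | ⟨t, H, L, F, _, _, hJ⟩
    · have hC := BSW.ca2_SL2.of_injective (e.trans BSW.pslEquiv).toMonoidHom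
        (e.trans BSW.pslEquiv).injective
      refine ⟨O_eq_bot (fun x ho x1 a ha _ _ a1 a2 _ _ => (x1 (GW.eq_one_of_odd_of_sq ho
        (hC.el a x a1 a2 (mem_cent1.1 ha).symm))).elim) h hV h4 hVM, fun hS v hv v1 v2 => ?_⟩
      exact le_Op_of_syl hS (se_cent h (Op_le 2 M hv) v1 v2) fun y =>
        ⟨1, Subtype.ext (by simpa [sq] using hC.el v y v1 v2 (mem_cent1.1 y.2))⟩
    · have hG := GW.good_of_equiv (L := ⊤) (by rw [Nat.odd_iff]; omega) (topEquiv.trans e)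
        GW.smp_top fun hc => hna ⟨⟨fun a b => ab_iff.1 hc a trivial b trivial⟩⟩
      have h0 := O_eq_bot (fun x ho x1 a ha b hb => hG.ui x trivial ho x1 a ⟨trivial, ha⟩ b
        ⟨trivial, hb⟩) h hV h4 hVM
      refine ⟨h0, fun hS v hv v1 v2 g hg => ?_⟩
      have hVS := le_Op_of_syl hS hVM (abelem_isPGroup hV)
      obtain ⟨w, hw, w1, w2, hvw⟩ : ∃ w ∈ V, w ≠ 1 ∧ w * w = 1 ∧ v ≠ w := by
        obtain ⟨a, ha, b, hb, a1, b1, hab, a2, b2⟩ := exists_pair hV h4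
        by_cases e : v = a
        · exact ⟨b, hb, b1, b2, e ▸ hab⟩
        · exact ⟨a, ha, a1, a2, e⟩
      have hP : GW.Pair M v w := ⟨Op_le 2 M hv, hVM hw, v1, w1, hvw, v2, w2,
        ab_iff.1 (h2 _ hS.isPGroup) v hv w (hVS hw), fun e' => not_eight_dvd hF
          (Nat.card_congr e.toEquiv ▸ e'.trans (card_subgroup_dvd_card M))⟩
      have h5 := eq_Op_of_syl hS hP.syl
      have h6 := se_cent h (Op_le 2 M hv) v1 v2 hg
      refine cent_Op_le_of_Op'_eq_bot hsol h0 ⟨h6, ?_⟩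
      rw [← h5, GW.cent_S4]
      exact ⟨hg, hP.mem_cent_of_norm h6 (h5 ▸ (Op_normal 2 M).norm h6) hg⟩
    · exfalso
      obtain ⟨g, -, hg⟩ := se_conj_le h le_top le_top (isPGroup_zp hJ.t2)
      have h1 := se_cent h (hg (conj_mem_conj (mem_zpowers t))) (conj_ne_one.2 hJ.t1)
        (GW.conj_sq hJ.t2 g)
      rw [cent1_conj] at h1
      have h3 := sol_of_le (sol_conj.1 (sol_of_le hsol h1)) (hJ.le.trans (jr_le_cent hJ))
      haveI := jr_simple hJ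
      have h5 : Ab L := ⟨⟨IsSimpleGroup.comm_iff_isSolvable.2 h3⟩⟩
      exact (nontrivial_iff_ne_bot L).1 inferInstance
        (eq_bot_iff.2 (hJ.centL ▸ le_inf hJ.le h5.le_cent))
  have hS := syl_Op_two h2 hsol key.1
  obtain ⟨z, hz, z1, z2⟩ := exists_inv (hS.dvd_card_iff.2 h.even)
  rcases BSW.dichotomy (h2 _ hS.isPGroup) (fun x hx x1 g hg => by
      obtain ⟨y, hy, y1, y2⟩ := exists_inv (dvd_card_of_isPGroup
        (hS.isPGroup.to_le (zpowers_le.2 hx)) (zpowers_ne_bot.2 x1))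
      exact key.2 hS y (zpowers_le.2 hx hy) y1 y2
        (cent1_le_of_mem_zpowers hy (mem_cent1.2 hg))) hz z1 z2 with
    ⟨N, h1, h3, h5⟩ | ⟨m, hm, h1, h3, h5, ⟨e⟩⟩
  · rcases h1.eq_bot_or_eq_top with e | rfl
    · exact (h3 e).elim
    · exact (hna ⟨⟨fun a b => ab_iff.1 h5 a trivial b trivial⟩⟩).elim
  have h6 : 𝐍(Op 2 M) = M :=
    (h.norm_le (Op_le 2 M) (two_dvd hz z1 z2)).antisymm (Op_normal 2 M).norm
  refine ⟨m, h1, ?_, by omega, fun x => ?_⟩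
  · have h7 := card_mul_relIndex (Op_le 2 M)
    have h8 := M.card_mul_index
    have h4 : 4 ≤ 2 ^ m := Nat.pow_le_pow_right (n := 2) (by norm_num) hm
    rw [h6] at h3
    rw [← h7, h1, h3, h5, mul_comm (2 ^ m)] at h8
    exact Nat.eq_of_mul_eq_mul_left (Nat.mul_pos (by omega) (by positivity)) h8
  · obtain ⟨g, e1, e2⟩ := real_SL2 ((e.trans BSW.pslEquiv) x)
    obtain ⟨g, rfl⟩ := (e.trans BSW.pslEquiv).surjective g
    exact ⟨g, (e.trans BSW.pslEquiv).injective (by rw [map_mul, e1, map_one]),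
      (e.trans BSW.pslEquiv).injective (by rw [map_mul, map_mul, map_inv, e2, map_inv])⟩

omit [Finite G] in
theorem smul_coe_eq {y g : G} : y • (g : G ⧸ M) = g ↔ y ∈ g •ᶜ M := by
  rw [MulAction.Quotient.smul_coe, eq_comm, QuotientGroup.eq, mem_conj, smul_eq_mul, mul_assoc]

/-- the properties of the action on the conjugates of `M` -/
structure K1 (M : Subgroup G) : Prop where
  odd : ∀ U, U ⊴ M → Odd ♯U → U = ⊥
  two : ∀ p : ℕ, p.Prime → p ≠ 2 → ∀ Y ≤ M, IsPGroup p Y → ∃ g ∉ M, Y ≤ g •ᶜ M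
  even : ∀ p : ℕ, p.Prime → p ≠ 2 → ∀ Y : Subgroup G, IsPGroup p Y →
    ∃ X : Subgroup G, X ≠ ⊤ ∧ Y ≤ X ∧ 2 ∣ ♯X

theorem k1_core {n : ℕ} (hK : KHyp.{u} n) (hn : Nat.card G < n) (h2 : Ab2 G)
    (hO : ∀ N : Subgroup G, N.Normal → Odd ♯N → N = ⊥) (h : SE M) (hsol : Sol M)
    (hV : IsElementaryAbelian 2 V) (h4 : 2 < ♯V) (hVM : V ≤ M) : K1 M := by
  rcases sol_or_simple h2 hO (fun s t => se_class h) with hs | ⟨L, hL, h1, h3, h5⟩
  · exact (h.ne (eq_top_iff.2 (h.le_of_four inferInstance hV h4 le_top hVM))).elim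
  have hVL : V ≤ L := fun v hv => h5 v (by rw [← sq]; exact hV.2 v hv)
  have hLM : ¬ L ≤ M := fun e => h3 ⟨⟨IsSimpleGroup.comm_iff_isSolvable.2 (sol_of_le hsol e)⟩⟩
  obtain ⟨v, hv, -, -, v1, -, -, v2, -⟩ := exists_pair hV h4
  have h6 := se_sub h (two_dvd (mem_inf.2 ⟨hVM hv, hVL hv⟩) v1 v2) hLM
  obtain ⟨m, e1, e2, hm, e3⟩ := k0 (ab2_sub h2 L) h1 h3
    (hK L ((card_le_card_group L).trans_lt hn) h1 h3 (ab2_sub h2 L)) h6
    (Core.isSolvable_subgroupOf hsol L) (Mod.isElementaryAbelian_subgroupOf hV)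
    (by rwa [Core.card_subgroupOf_of_le hVL]) (fun x hx => hVM hx)
  rw [← card_map_of_injective L.subtype_injective, map_Op L.subtype_injective,
    subgroupOf_map_subtype] at e1
  have hT : Op 2 (M ⊓ L) ⊴ M := ((normalIn_top.2 hL).inf_left le_top).Op 2
  have h7 : M.index = M.relIndex L := by
    obtain ⟨S, hS⟩ := exists_syl 2 M
    have h8 := (h.syl hS).inf_normal (normalIn_top.2 hL)
    rw [← relIndex_top_right]
    refine IsProd.relIndex_eq (IsProd.of_forall le_top le_top fun x hx => ?_)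
    obtain ⟨a, ha, b, hb, e⟩ := (h8.frattini (normalIn_top.2 hL)).mem_iff.1 hx
    exact ⟨a, ha, b, h.norm_le (inf_le_left.trans hS.le)
      (h8.dvd_card_iff.2 (two_dvd (hVL hv) v1 v2)) hb.2, e⟩
  have hΩ : Nat.card (G ⧸ M) = 1 + 2 ^ m := h7.trans e2
  have two : ∀ p : ℕ, p.Prime → p ≠ 2 → ∀ Y ≤ M, IsPGroup p Y → ∃ g ∉ M, Y ≤ g •ᶜ M := by
    intro p hp p2 Y hY hYp
    haveI := Fact.mk hp
    by_contra! hc
    have h8 := hYp.card_modEq_card_fixedPoints (G ⧸ M)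
    have h9 : MulAction.fixedPoints Y (G ⧸ M) = {((1 : G) : G ⧸ M)} := by
      ext c
      obtain ⟨g, rfl⟩ := QuotientGroup.mk_surjective c
      refine ⟨fun hg => by_contra fun e => hc g (fun e' => e (QuotientGroup.eq.2 (by simpa)))
        fun y hy => smul_coe_eq.1 (hg ⟨y, hy⟩), fun e y => ?_⟩
      rw [show (g : G ⧸ M) = (1 : G) from e]
      exact smul_coe_eq.2 (by rw [one_conj]; exact hY y.2)
    rw [h9, hΩ, Nat.card_coe_set_eq, Set.ncard_singleton] at h8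
    have := (Nat.modEq_iff_dvd' (by omega)).1 h8.symm
    rw [Nat.add_sub_cancel_left] at this
    exact p2 ((Nat.prime_dvd_prime_iff_eq hp Nat.prime_two).1 (hp.dvd_of_dvd_pow this))
  have htr : ∀ g ∉ M, ∀ g' ∉ M, ∃ x ∈ Op 2 (M ⊓ L), x • (g : G ⧸ M) = g' := by
    intro g hg g' hg'
    have h8 : {b | ∃ d ∈ Op 2 (M ⊓ L), d • (g : G ⧸ M) = b} = {((1 : G) : G ⧸ M)}ᶜ := by
      refine Set.eq_of_subset_of_ncard_le ?_ ?_
      · rintro _ ⟨x, hx, rfl⟩ e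
        exact hg ((M.mul_mem_cancel_left (hT.le hx)).1 (by simpa using QuotientGroup.eq.1 (Eq.symm e)))
      · have h9 := card_inf_mul_relIndex (MulAction.stabilizer G (g : G ⧸ M)) (Op 2 (M ⊓ L))
        have h10 : MulAction.stabilizer G (g : G ⧸ M) ⊓ Op 2 (M ⊓ L) = ⊥ := by_contra fun e =>
          h.odd g hg ((dvd_card_of_isPGroup ((Op_isPGroup 2 _).to_le inf_le_right) e).trans
            (card_dvd fun x hx => ⟨hT.le hx.2, smul_coe_eq.1 hx.1⟩))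
        have h11 := Set.ncard_add_ncard_compl ({((1 : G) : G ⧸ M)} : Set (G ⧸ M))
        rw [h10, card_bot, relIndex_stabilizer, e1] at h9
        rw [Set.ncard_singleton, hΩ] at h11
        omega
    exact (h8.symm ▸ fun e => hg' (by simpa using QuotientGroup.eq.1 e) :
      (g' : G ⧸ M) ∈ {b | ∃ d ∈ Op 2 (M ⊓ L), d • (g : G ⧸ M) = b})
  refine ⟨fun U hU ho => by_contra fun h0 => ?_, two, fun p hp p2 Y hY => ?_⟩
  · obtain ⟨p, hp, h8⟩ := exists_Op_ne_bot (GW.sol_of_odd ho) h0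
    haveI := Fact.mk hp
    have ho' := GW.odd_of_le ho (Op_le p U)
    obtain ⟨g, hg, h9⟩ := two p hp (fun e => by
      subst e
      exact Nat.not_even_iff_odd.2 ho' (even_iff_two_dvd.2
        (dvd_card_of_isPGroup (Op_isPGroup 2 U) h8))) _ (hU.Op p).le (Op_isPGroup p U)
    have h10 : Op 2 (M ⊓ L) ≤ 𝐂(Op p U) := le_cent_of_coprime (hT.le.trans (hU.Op p).norm)
      ((hU.Op p).le.trans hT.norm) (coprime_of_isPGroup (Op_isPGroup 2 _) (GW.odd_iff.1 ho'))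
    have h11 : Op p U ≤ M.normalCore := fun y hy b => by
      by_cases hb : b ∈ M
      · exact mul_mem (mul_mem hb ((hU.Op p).le hy)) (inv_mem hb)
      · obtain ⟨x, hx, e⟩ := htr g hg b⁻¹ (fun e => hb (inv_mem_iff.1 e))
        have : y • ((b⁻¹ : G) : G ⧸ M) = (b⁻¹ : G) := by
          rw [← e, ← mul_smul, mem_cent_iff.1 (h10 hx) y hy, mul_smul, smul_coe_eq.2 (h9 hy)]
        simpa using mem_conj.1 (smul_coe_eq.1 this)
    refine h8 (eq_bot_iff.2 (hO _ M.normalCore_normal (Nat.odd_iff.2 ?_) ▸ h11))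
    have : ¬ 2 ∣ ♯M.normalCore := fun e => h.odd g hg (dvd_trans e (card_dvd (show M.normalCore ≤ M ⊓ g •ᶜ M from
      fun x hx => ⟨M.normalCore_le hx, mem_conj.2 (by simpa using hx g⁻¹)⟩)))
    omega
  · haveI := Fact.mk hp
    by_cases hc : ∃ g : G, Y ≤ g •ᶜ M
    · obtain ⟨g, hg⟩ := hc
      exact ⟨_, (se_conj h g).ne, hg, (se_conj h g).even⟩
    have h8 := hY.card_modEq_card_fixedPoints (G ⧸ M)
    have h9 : MulAction.fixedPoints Y (G ⧸ M) = ∅ := Set.eq_empty_of_forall_notMem fun c hg => by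
      obtain ⟨g, rfl⟩ := QuotientGroup.mk_surjective c
      exact hc ⟨g, fun y hy => smul_coe_eq.1 (hg ⟨y, hy⟩)⟩
    rw [h9, Nat.card_coe_set_eq, Set.ncard_empty] at h8
    have h10 : p ∣ ♯L := (Nat.modEq_zero_iff_dvd.1 h8).trans (h7.symm ▸ relIndex_dvd_card M L :
      M.index ∣ _)
    obtain ⟨P, hP, hYP⟩ := exists_syl_ge le_top hY
    obtain ⟨w, hw, w1⟩ := exists_mem_ne_one (inf_cent_ne_bot_of_nil hP.nil
      ((normalIn_top.2 hL).inf_left le_top) ((hP.inf_normal (normalIn_top.2 hL)).ne_bot h10))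
    have ho := GW.odd_of_mem (GW.odd_of_isPGroup p2 hP.isPGroup) hw.1.1
    obtain ⟨g, g2, e⟩ := e3 ⟨w, hw.1.2⟩
    have e' : g * w * (g : G)⁻¹ = w⁻¹ := congrArg Subtype.val e
    refine ⟨𝐍(zpowers w), fun e => w1 (zpowers_eq_bot.1 (hO _ (normalizer_eq_top_iff.1 e)
      (by rwa [Nat.card_zpowers]))), hYP.trans (le_norm_of_le_cent (le_cent_symm
        (zpowers_le.2 hw.2))), two_dvd (t := g) ?_ (fun e => w1 (GW.eq_one_of_odd_of_sq ho ?_))
          (congrArg Subtype.val g2)⟩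
    · rw [← conj_eq_self_iff, conj_zpowers, e', zpowers_inv]
    · rw [e] at e'
      exact mul_eq_one_iff_eq_inv.2 (by simpa using e')

theorem O_le (h : SE M) (hV : IsElementaryAbelian 2 V) (h4 : 2 < ♯V) (hVM : V ≤ M) (hVH : V ≤ H) :
    GW.O H ≤ M :=
  le_sup_right.trans (h.le_of_four (sol_sup (hVH.trans (GW.O_norm H)) (sol_of_ab (abelem_ab hV))
    (GW.sol_of_odd (GW.odd_O H))) hV h4 le_sup_left hVM)

/-- proper subgroups containing a four-group of `M` -/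
theorem k1 (hK : KHyp.{u} (Nat.card G)) (h2 : Ab2 G) (h : SE M) (hsol : Sol M) (hH : H ≠ ⊤)
    (hV : IsElementaryAbelian 2 V) (h4 : 2 < ♯V) (hVM : V ≤ M) (hVH : V ≤ H) (hn : ¬ H ≤ M) :
    (∀ U, U ⊴ M ⊓ H → Odd ♯U → U ≤ GW.O H) ∧
    (∀ p : ℕ, p.Prime → p ≠ 2 → ∀ Y ≤ M ⊓ H, IsPGroup p Y → ∃ g ∈ H, g ∉ M ∧ Y ≤ g •ᶜ M) ∧
    ∀ p : ℕ, p.Prime → p ≠ 2 → ∀ Y ≤ H, IsPGroup p Y → ∃ X < H, Y ≤ X ∧ 2 ∣ ♯X := by
  let π := QuotientGroup.mk' (pPrimeCore 2 H)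
  have hπ : Function.Surjective π := QuotientGroup.mk'_surjective _
  have hO := O_le h hV h4 hVM hVH
  have hk : π.ker ≤ M.subgroupOf H := by
    rw [QuotientGroup.ker_mk']
    rw [GW.O, Op'_eq_map] at hO
    exact map_le_iff_le_comap.1 hO
  obtain ⟨v, hv, -, -, v1, -, -, v2, -⟩ := exists_pair hV h4
  have h1 := k1_core hK ((card_quot_le _).trans_lt (card_lt_of_ne_top hH))
    (ab2_of_surjective (ab2_sub h2 H) hπ) eq_bot_of_odd
    (se_map (se_sub h (two_dvd (mem_inf.2 ⟨hVM hv, hVH hv⟩) v1 v2) hn) hπ (odd_ker H) hk)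
    (Core.isSolvable_map (Core.isSolvable_subgroupOf hsol H) π)
    (abelem_map (Mod.isElementaryAbelian_subgroupOf hV) π)
    (by rwa [card_map_eq (inf_eq_bot_of_coprime_card (coprime_of_isPGroup (abelem_isPGroup
      (Mod.isElementaryAbelian_subgroupOf hV)) (GW.odd_iff.1 (odd_ker H)))),
      Core.card_subgroupOf_of_le hVH]) (map_mono fun x hx => hVM hx)
  refine ⟨fun U hU ho x hx => ?_, fun p hp p2 Y hY hYp => ?_, fun p hp p2 Y hY hYp => ?_⟩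
  · have h3 := h1.odd ((U.subgroupOf H).map π) (NormalIn.map (H := U.subgroupOf H)
      (M := M.subgroupOf H) ⟨fun x hx => (hU.le hx).1,
      fun x hx => Mod.mem_normalizer_subgroupOf (hU.norm ⟨hx, x.2⟩)⟩ π)
      (ho.of_dvd_nat ((card_map_dvd _ _).trans
        (Core.card_subgroupOf_of_le (hU.le.trans inf_le_right)).dvd))
    rw [Subgroup.map_eq_bot_iff, QuotientGroup.ker_mk'] at h3
    rw [GW.O, Op'_eq_map]
    exact ⟨⟨x, (hU.le hx).2⟩, h3 hx, rfl⟩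
  · obtain ⟨g, hg, e⟩ := h1.two p hp p2 ((Y.subgroupOf H).map π) (map_mono fun x hx => (hY hx).1)
      (hYp.comap_subtype.map π)
    obtain ⟨g, rfl⟩ := hπ g
    refine ⟨g, g.2, fun e => hg (mem_map_of_mem π e), fun y hy => mem_conj.2 ?_⟩
    have := mem_conj.1 (e (mem_map_of_mem π (show (⟨y, (hY hy).2⟩ : H) ∈ Y.subgroupOf H from hy)))
    rwa [← map_inv, ← map_mul, ← map_mul, ← mem_comap, comap_map_eq_self hk] at this
  · obtain ⟨X, h3, h5, h6⟩ := h1.even p hp p2 ((Y.subgroupOf H).map π) (hYp.comap_subtype.map π)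
    obtain ⟨t, ht, t1, t2⟩ := exists_inv h6
    obtain ⟨t, rfl, t3⟩ := lift_inv hπ (odd_ker H) t2
    refine ⟨(X.comap π).map H.subtype, lt_of_le_of_ne (map_subtype_le _) fun e => h3 ?_,
      fun y hy => ⟨⟨y, hY hy⟩, h5 (mem_map_of_mem π hy), rfl⟩,
      two_dvd (t := t) (mem_map_of_mem _ ht) (fun e => t1 (by
        rw [show t = 1 from Subtype.ext e, map_one])) (congrArg Subtype.val t3)⟩
    rw [← map_comap_eq_self_of_surjective hπ X, map_subtype_eq_self_iff.1 e, map_top_of_surjective _ hπ]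

end Cfsg.Agent.SE
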