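import Cfsg.Agent.Lib.OO.BG1

/-!
# Some counting lemmas for group actions
-/

set_option autoImplicit false

namespace Cfsg.Agent.SE

open Subgroup Cfsg.Agent.OO MulAction Finset
open scoped Pointwise

variable {Γ α : Type*} [Group Γ] [MulAction Γ α]

/-- a group acting freely on an invariant set has order dividing the size of the set -/
theorem dvd_ncard_of_free {E : Subgroup Γ} {S : Set α} (hS : ∀ e ∈ E, ∀ a ∈ S, e • a ∈ S)
    (hf : ∀ e ∈ E, ∀ a ∈ S, e • a = a → e = 1) : ♯E ∣ S.ncard := by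
  let T : SubMulAction E α := ⟨S, fun e _ ha => hS e e.2 _ ha⟩
  have e := selfEquivOrbitsQuotientProd (G := E) (X := T) fun b => eq_bot_iff.2 fun g hg =>
    mem_bot.2 (Subtype.ext (hf g g.2 b b.2 (congrArg Subtype.val (mem_stabilizer_iff.1 hg))))
  have h := Nat.card_congr e
  rw [Nat.card_prod] at h
  exact Dvd.intro_left _ (h.symm.trans (Nat.card_coe_set_eq S))

theorem relIndex_stabilizer (D : Subgroup Γ) (a : α) :
    (stabilizer Γ a).relIndex D = {b | ∃ d ∈ D, d • a = b}.ncard := by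
  have h : {b | ∃ d ∈ D, d • a = b} = orbit D a := Set.ext fun b =>
    ⟨fun ⟨d, hd, e⟩ => ⟨⟨d, hd⟩, e⟩, fun ⟨d, e⟩ => ⟨d, d.2, e⟩⟩
  rw [h, ← index_stabilizer]
  rfl

/-- an element of prime order `r` fixes the points of an invariant set with less than `r` points -/
theorem smul_eq_of_small {x : Γ} {r : ℕ} (hr : r.Prime) (hx : x ^ r = 1) {S : Set α}
    (hfin : S.Finite) (hS : ∀ a ∈ S, x • a ∈ S) (hc : S.ncard < r) {a : α} (ha : a ∈ S) :
    x • a = a := by
  by_contra h
  have h1 : x ≠ 1 := fun e => h (by rw [e, one_smul])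
  haveI := Fact.mk hr
  have ho : orderOf x = r := orderOf_eq_prime hx h1
  have hin : ∀ n : ℕ, x ^ n • a ∈ S := fun n => by
    induction n with
    | zero => simpa using ha
    | succ n ih => rw [pow_succ', mul_smul]; exact hS _ ih
  have hfo : IsOfFinOrder x := orderOf_pos_iff.1 (ho ▸ hr.pos)
  have hd := dvd_ncard_of_free (E := zpowers x) (S := orbit (zpowers x) a)
    (fun e he b hb => by
      obtain ⟨f, rfl⟩ := hb
      exact ⟨⟨e, he⟩ * f, mul_smul _ _ _⟩)
    (fun e he b hb hb' => by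
      obtain ⟨f, rfl⟩ := hb
      by_contra e1
      haveI : Finite (zpowers x) := finite_zpowers.2 hfo
      have h2 : zpowers e = zpowers x := by
        refine eq_of_le_of_card_ge (zpowers_le.2 he) ?_
        rw [Nat.card_zpowers, Nat.card_zpowers, ho]
        have : e ^ r = 1 := by
          obtain ⟨k, rfl⟩ := he
          show (x ^ k) ^ r = 1
          rw [← zpow_natCast, ← zpow_mul, mul_comm, zpow_mul, zpow_natCast, hx, one_zpow]
        rw [orderOf_eq_prime this e1]
      have h3 : x ∈ stabilizer Γ ((f : Γ) • a) :=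
        (zpowers_le.2 (mem_stabilizer_iff.2 hb')) (h2 ▸ mem_zpowers x)
      have h4 : (f : Γ) * x = x * f := by
        obtain ⟨f, k, rfl⟩ := f
        exact (Commute.zpow_left (Commute.refl x) k).eq
      rw [mem_stabilizer_iff, ← mul_smul, ← h4, mul_smul] at h3
      exact h (smul_left_cancel _ h3))
  have hsub : orbit (zpowers x) a ⊆ S := by
    rintro _ ⟨⟨f, hf⟩, rfl⟩
    obtain ⟨n, rfl⟩ := (hfo.mem_powers_iff_mem_zpowers.2 hf)
    exact hin n
  rw [Nat.card_zpowers, ho] at hd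
  have := Nat.le_of_dvd ((Set.ncard_pos (hfin.subset hsub)).2 ⟨a, mem_orbit_self a⟩) hd
  have := Set.ncard_le_ncard hsub hfin
  omega

/-- Witt's argument: a Sylow subgroup of a point stabilizer of a transitive group of odd order
does not fix exactly two points -/
theorem witt [Finite Γ] {D R : Subgroup Γ} (hD : Odd ♯D) {r : ℕ} [Fact r.Prime] {a b : α}
    (hab : a ≠ b) {d : Γ} (hd : d ∈ D) (e : d • a = b) (hR : Syl r R (D ⊓ stabilizer Γ a))
    (hb : ∀ x ∈ R, x • b = b) (h : ∀ c, (∀ x ∈ R, x • c = c) → c = a ∨ c = b) : False := by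
  have h1 : d⁻¹ •ᶜ R ≤ D ⊓ stabilizer Γ a := conj_le_iff.2 fun x hx =>
    ⟨D.mul_mem (D.mul_mem (D.inv_mem hd) (hR.le hx).1) (D.inv_mem (D.inv_mem hd)), by
      show _ • a = a
      rw [inv_inv, mul_smul, mul_smul, e, hb x hx, ← e, inv_smul_smul]⟩
  obtain ⟨g, hg, h2⟩ := hR.exists_conj' (hR.of_card_eq h1 (card_conj _ _))
  have hn : d * g ∈ 𝐍(R) := by
    rw [← conj_eq_self_iff, ← conj_conj, ← h2, conj_inv_conj]
  have e1 : (d * g) • a = b := by rw [mul_smul, mem_stabilizer_iff.1 hg.2, e]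
  have e2 : (d * g) • b = a := by
    refine (h _ fun x hx => ?_).resolve_right fun e2 => hab (smul_left_cancel _ (e1.trans e2.symm))
    have := hb _ (conj_mem_of_norm' hn hx)
    rwa [mul_smul, mul_smul, inv_smul_eq_iff] at this
  obtain ⟨k, hk⟩ := hD
  have h3 : (d * g) ^ 2 ∈ stabilizer Γ a := by
    show _ • a = a
    rw [sq, mul_smul, e1, e2]
  have h4 : (d * g) ^ ♯D = 1 :=
    orderOf_dvd_iff_pow_eq_one.1 (OO.orderOf_dvd_card (mul_mem hd hg.1))
  rw [hk, pow_succ', pow_mul] at h4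
  have h5 : d * g ∈ stabilizer Γ a := by
    rw [eq_inv_of_mul_eq_one_left h4]
    exact inv_mem (pow_mem h3 _)
  exact hab ((mem_stabilizer_iff.1 h5).symm.trans e1)

section moment

variable [Fintype Γ] [DecidableEq α] {Ω A B : Finset α}

theorem card_filter_smul (tr : ∀ x ∈ Ω, ∀ y ∈ Ω, ∃ g : Γ, g • x = y)
    (inv : ∀ g : Γ, ∀ x ∈ Ω, g • x ∈ Ω) (hB : B ⊆ Ω) {x : α} (hx : x ∈ Ω) :
    #Ω * #{g : Γ | g • x ∈ B} = #B * Fintype.card Γ := by
  have key : ∀ C ⊆ Ω, #{g : Γ | g • x ∈ C} = #C * #{g : Γ | g • x = x} := fun C hC => by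
    rw [card_eq_sum_card_fiberwise (f := fun g : Γ => g • x) (t := C)
      (fun g hg => by simpa using hg), ← smul_eq_mul, ← sum_const]
    refine sum_congr rfl fun y hy => ?_
    obtain ⟨h, rfl⟩ := tr x hx y (hC hy)
    refine card_bij (fun g _ => h⁻¹ * g) (fun g hg => ?_) (fun g _ g' _ e => mul_left_cancel e)
      fun g hg => ⟨h * g, ?_, inv_mul_cancel_left _ _⟩
    · simp only [mem_filter, mem_univ, true_and] at hg ⊢
      rw [mul_smul, hg.2, inv_smul_smul]
    · simp only [mem_filter, mem_univ, true_and] at hg ⊢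
      rw [mul_smul, hg]
      exact ⟨hy, rfl⟩
  have h1 := key Ω Subset.rfl
  rw [filter_true_of_mem fun g _ => inv g x hx, card_univ] at h1
  rw [key B hB, h1]
  ring

theorem first_moment (tr : ∀ x ∈ Ω, ∀ y ∈ Ω, ∃ g : Γ, g • x = y)
    (inv : ∀ g : Γ, ∀ x ∈ Ω, g • x ∈ Ω) (hA : A ⊆ Ω) (hB : B ⊆ Ω) {c : ℕ}
    (h : ∀ g : Γ, #{x ∈ A | g • x ∈ B} = c) : #Ω * c = #A * #B := by
  have h1 : ∑ g : Γ, #{x ∈ A | g • x ∈ B} = ∑ x ∈ A, #{g : Γ | g • x ∈ B} := by
    simp only [card_filter]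
    exact sum_comm
  have h2 := congrArg (#Ω * ·) h1
  simp only [h, mul_sum] at h2
  rw [sum_congr rfl fun x hx => card_filter_smul tr inv hB (hA hx)] at h2
  simp only [sum_const, card_univ, smul_eq_mul] at h2
  refine Nat.eq_of_mul_eq_mul_left (Fintype.card_pos (α := Γ)) ?_
  rw [h2]
  ring

/-- in a doubly transitive group, two nonempty sets whose translates meet in a constant number of
points are not both proper -/
theorem eq_univ_or [Fintype α]
    (tr : ∀ x y z w : α, x ≠ y → z ≠ w → ∃ g : Γ, g • x = z ∧ g • y = w)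
    (tr1 : ∀ x y : α, ∃ g : Γ, g • x = y) (hA : A.Nonempty) (hB : B.Nonempty) {c : ℕ}
    (h : ∀ g : Γ, #{x ∈ A | g • x ∈ B} = c) : A = univ ∨ B = univ := by
  have h1 := first_moment (Ω := univ) (fun x _ y _ => tr1 x y) (fun _ _ _ => mem_univ _)
    (subset_univ A) (subset_univ B) h
  have h2 := first_moment (Γ := Γ) (Ω := (univ : Finset α).offDiag) (A := A.offDiag)
    (B := B.offDiag) (c := c * c - c)
    (fun x hx y hy => by
      obtain ⟨g, h1, h2⟩ := tr x.1 x.2 y.1 y.2 (mem_offDiag.1 hx).2.2 (mem_offDiag.1 hy).2.2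
      exact ⟨g, Prod.ext h1 h2⟩)
    (fun g x hx => mem_offDiag.2 ⟨mem_univ _, mem_univ _,
      fun e => (mem_offDiag.1 hx).2.2 (smul_left_cancel g e)⟩)
    (offDiag_mono (subset_univ A)) (offDiag_mono (subset_univ B)) fun g => by
      rw [← h g, ← offDiag_card]
      congr 1
      ext x
      simp only [mem_filter, mem_offDiag, Prod.smul_fst, Prod.smul_snd, ne_eq,
        smul_left_cancel_iff]
      tauto
  rw [offDiag_card, offDiag_card, offDiag_card] at h2
  rw [← card_eq_iff_eq_univ, ← card_eq_iff_eq_univ, ← card_univ]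
  have ha := hA.card_pos
  have hb := hB.card_pos
  generalize #A = a at *
  generalize #B = b at *
  generalize #(univ : Finset α) = n at *
  have hc : 0 < c := Nat.pos_of_ne_zero fun e => by
    rw [e, mul_zero] at h1
    exact (Nat.mul_pos ha hb).ne h1
  have hn : 0 < n := Nat.pos_of_ne_zero fun e => by
    rw [e, zero_mul] at h1
    exact (Nat.mul_pos ha hb).ne h1
  have l : ∀ k : ℕ, ((k * k - k : ℕ) : ℤ) = k * k - k := fun k => by
    rw [Nat.cast_sub (Nat.le_mul_self k)]
    push_cast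
    ring
  have h3 := congrArg (Nat.cast : ℕ → ℤ) h2
  have h4 := congrArg (Nat.cast : ℕ → ℤ) h1
  push_cast [l] at h3 h4
  have h5 : ((n : ℤ) * c) * ((n - 1) * (c - 1) - (a - 1) * (b - 1)) = 0 := by
    linear_combination h3 - (a - 1) * (b - 1) * h4
  have h6 : ((n : ℤ) - 1) * (c - 1) - (a - 1) * (b - 1) = 0 :=
    (mul_eq_zero.1 h5).resolve_left (by positivity)
  have h7 : ((a : ℤ) - n) * (b - n) = 0 := by
    linear_combination -(n : ℤ) * h6 + (n - 1) * h4
  rcases mul_eq_zero.1 h7 with e | e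
  · left; omega
  · right; omega

end moment

theorem card_dvd_factorial [Finite Γ] (hs : IsSimpleGroup Γ) {Y : Subgroup Γ} (hY : Y ≠ ⊤) :
    Nat.card Γ ∣ Y.index.factorial := by
  classical
  have h0 : Y.normalCore = ⊥ := (Y.normalCore_normal.eq_bot_or_eq_top).resolve_right fun e =>
    hY (eq_top_iff.2 (e ▸ Y.normalCore_le))
  rw [normalCore_eq_ker] at h0
  haveI := Fintype.ofFinite (Γ ⧸ Y)
  have := card_dvd_of_injective _ ((MonoidHom.ker_eq_bot_iff _).1 h0)
  rwa [Nat.card_perm] at this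

end Cfsg.Agent.SE
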