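import Cfsg.Agent.Lib.SE.Basic
import Cfsg.Agent.Lib.Mod.GroupForm
import Cfsg.Agent.Lib.Mod.Unip
import Cfsg.Agent.Lib.Mod.Retract

/-!
# Solvable linear groups of degree at most `p` in characteristic `p`
-/

set_option autoImplicit false

namespace Cfsg.Agent.SE

open Subgroup Cfsg.Agent.OO Cfsg.Agent.R1 Cfsg.Agent.Mod Module Polynomial
open scoped Pointwise commutatorElement

universe u

variable {K W : Type*} [Field K] [AddCommGroup W] [Module K W] [FiniteDimensional K W]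

theorem le_finrank_range {T : End K W} {N : ℕ} (hN : T ^ N = 0) (i : ℕ) :
    ∀ j, T ^ (j + i) ≠ 0 → i + 1 ≤ finrank K (LinearMap.range (T ^ j)) := by
  induction i with
  | zero => exact fun j h => Submodule.one_le_finrank_iff.2 fun e => h (LinearMap.range_eq_bot.1 e)
  | succ i ih =>
    intro j h
    have h1 : ∀ n, LinearMap.range (T ^ (n + 1)) = (LinearMap.range (T ^ n)).map T := fun n => by
      rw [pow_succ', End.mul_eq_comp, LinearMap.range_comp]
    refine (ih (j + 1) (by rwa [add_assoc, add_comm 1])).trans_lt (Submodule.finrank_lt_finrank_of_lt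
      (lt_of_le_of_ne (by rw [pow_succ, End.mul_eq_comp]; exact LinearMap.range_comp_le_range _ _)
        fun e => h ?_))
    have h2 : ∀ n, LinearMap.range (T ^ (j + n)) = LinearMap.range (T ^ j) := fun n => by
      induction n with
      | zero => rfl
      | succ n ih => rw [← add_assoc, h1, ih, ← h1, e]
    rw [← LinearMap.range_eq_bot, h2, ← h2 N, pow_add, hN, mul_zero, LinearMap.range_zero]

variable {G : Type u} [Group G] [Finite G] {p : ℕ} [hp : Fact p.Prime]

omit [Finite G] [FiniteDimensional K W] in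
theorem fix_zpowers (σ : Representation K G W) (z : G) :
    fix σ (zpowers z) = LinearMap.ker (σ z - 1) := by
  ext w
  simp [mem_fix_zpowers, sub_eq_zero]

theorem lin_core [IsAlgClosed K] [CharP K p] (hs : Group.IsSolvable G) (h2 : Ab2 G) (p2 : p ≠ 2)
    (h0 : Op p (⊤ : Subgroup G) = ⊥) {σ : Representation K G W} (hσ : Function.Injective σ)
    (hd : finrank K W ≤ p) : ¬ p ^ 2 ∣ Nat.card G := fun hG => by
  have hk : σ.ker = ⊥ := (MonoidHom.ker_eq_bot_iff _).2 hσ
  have hF : ¬ p ∣ ♯(Fit (⊤ : Subgroup G)) := (syl_Op_Fit p ⊤).eq_bot_iff.1 h0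
  have hn : ∀ X : Subgroup G, X ≤ 𝐍(Fit (⊤ : Subgroup G)) := fun X => le_top.trans (Fit_normal ⊤).norm
  have h1 : ∀ z : G, orderOf z = p → ¬ ∀ g ∈ Fit (⊤ : Subgroup G), ⁅g, z⁆ = 1 := fun z hz e =>
    hF (hz ▸ OO.orderOf_dvd_card (cent_sub_Fitting inferInstance ⟨mem_top z, mem_cent_iff.2
      fun g hg => commutatorElement_eq_one_iff_mul_comm.1 (e g hg)⟩))
  have h3 : ∀ z : G, orderOf z = p → finrank K (fix σ (zpowers z)) ≤ 1 := fun z hz => by
    have e1 : (σ z - 1) ^ p = 0 := by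
      have := sub_one_pow_char_pow (ρ := σ) (p := p) z 1
      rwa [pow_one, ← hz, pow_orderOf_eq_one, map_one, sub_self, hz] at this
    have e2 : (σ z - 1) ^ (1 + (p - 2)) ≠ 0 := fun e => by
      have := hp.out.two_le
      obtain ⟨q, hq, Q, -, hQ, h4, i, -, d, hd, h5, -⟩ := hallHigman_of_coprime (ρ := σ)
        (natCast_ne_zero_of_not_dvd K hF) (n := 0) hp.out hF (hn _ (mem_top z)) (by simpa)
        (by simpa [hk] using h1 z hz) (f := (X - 1) ^ (1 + (p - 2)))
        (pow_ne_zero _ (X_sub_C_ne_zero 1)) (by simpa using e)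
        (by rw [natDegree_pow, ← C_1, natDegree_X_sub_C, zero_add, pow_one]; omega)
      obtain rfl := (eq_two_of_pow_add_one hq hp.out p2 h5 hd).1
      exact h4 ((ab_iff_der.1 (h2 Q hQ)).le.trans bot_le)
    have e3 := le_finrank_range e1 _ 1 e2
    have e4 := (σ z - 1).finrank_range_add_finrank_ker
    rw [pow_one] at e3
    rw [fix_zpowers]
    have := hp.out.two_le
    omega
  obtain ⟨Z, hZ⟩ := Sylow.exists_subgroup_card_pow_prime p hG
  have hE : IsEp p 2 Z ⊤ := ⟨le_top, ⟨IsPGroup.isMulCommutative_of_card_eq_prime_sq hZ,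
    fun g hg => hσ (by
      have e1 := sub_one_pow_char_pow (ρ := σ) (p := p) g 2
      have e2 := sub_one_pow_char_pow (ρ := σ) (p := p) g 1
      rw [show g ^ p ^ 2 = 1 from orderOf_dvd_iff_pow_eq_one.1 (hZ ▸ OO.orderOf_dvd_card hg), map_one,
        sub_self] at e1
      rw [pow_one] at e2
      rw [map_one, ← sub_eq_zero, ← e2]
      by_contra e
      have := le_finrank_range e1 p 0 (by rwa [zero_add])
      have := (LinearMap.range ((σ g - 1) ^ 0)).finrank_le
      omega)⟩, hZ⟩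
  obtain ⟨z, hz, z1⟩ := exists_mem_ne_one (hE.ne_bot two_ne_zero)
  have hW : (⊤ : Submodule K W) ≠ ⊥ := fun e => z1 (hσ (LinearMap.ext fun w => by
    rw [show w = 0 from (Submodule.mem_bot K).1 (e ▸ Submodule.mem_top), map_zero, map_zero]))
  have h4 := (isInv_top (ρ := σ) Z).inf_fix_ne_bot_of_isPGroup hE.isPGroup hW
  rw [top_inf_eq] at h4
  have h5 : ∀ z ∈ Z, z ≠ 1 → fix σ Z = fix σ (zpowers z) := fun z hz z1 =>
    Submodule.eq_of_le_of_finrank_le (fix_anti (zpowers_le.2 hz))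
      ((h3 z (orderOf_eq_of_abelem hE.abelem hz z1)).trans (Submodule.one_le_finrank_iff.2 h4))
  have h6 : IsInv σ (Fit ⊤) (fix σ Z) := isInv_iff_le_stab.2
    (Coprime.le_of_forall_centralizer_le hE.ab (hE.not_isCyclic le_rfl) (hn Z)
      (coprime_of_isPGroup hE.isPGroup ((piGrp_compl_singleton hp.out).2 hF)) fun z hz z1 =>
        isInv_iff_le_stab.1 (h5 z hz z1 ▸ isInv_fix (le_norm_of_le_cent
          (cent_zpowers z ▸ inf_le_right))))
  have h7 : Z ≤ 𝐍(Fit ⊤ ⊓ kerOn σ (fix σ Z)) :=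
    le_norm_inf (hn Z) (normalizer_kerOn (isInv_fix (le_norm_self Z)))
  have h8 := isCompl_fix_cmt (ρ := σ) (natCast_ne_zero_of_not_dvd K fun e =>
    hF (e.trans (card_dvd (inf_le_left : Fit ⊤ ⊓ kerOn σ (fix σ Z) ≤ _))))
  have h9 : cmt σ (Fit ⊤ ⊓ kerOn σ (fix σ Z)) = ⊥ := by_contra fun e =>
    (isInv_cmt h7).inf_fix_ne_bot_of_isPGroup hE.isPGroup e (eq_bot_iff.2 (h8.inf_eq_bot ▸
      le_inf (inf_le_right.trans (le_kerOn_iff.1 inf_le_right)) inf_le_left))
  refine h1 z (orderOf_eq_of_abelem hE.abelem hz z1) fun g hg => hσ (LinearMap.ext fun w => ?_)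
  have := sub_mem_cmt (ρ := σ) (H := Fit ⊤ ⊓ kerOn σ (fix σ Z)) (h := ⁅g, z⁆)
    ⟨commutator_le_left' (hn Z) (commutator_mem_commutator hg hz), mem_kerOn.2 fun w hw => by
      rw [commutatorElement_def, rho_mul_apply, rho_mul_apply, rho_mul_apply,
        mem_fix.1 hw _ (inv_mem hz), mem_fix.1 (h6 _ (inv_mem hg) w hw) z hz, ← rho_mul_apply,
        mul_inv_cancel, map_one, End.one_apply]⟩ w
  rw [h9, Submodule.mem_bot, sub_eq_zero] at this
  rw [this, map_one, End.one_apply]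

theorem lin (hs : Group.IsSolvable G) (h2 : Ab2 G) (p2 : p ≠ 2) {V : Subgroup G}
    (hV : Core.IsMinNormal V) (hE : IsElementaryAbelian p V) {y : G} (hy : y ^ p = 1)
    (hc : ♯(V ⊓ 𝐂[y]) ≤ p) : ¬ p ^ 2 ∣ 𝐂(V).index := by
  haveI := hV.normal
  obtain ⟨W, _, _, _, ρ, ι, h⟩ := exists_isLin (AlgebraicClosure (ZMod p)) hE
  rw [← h.ker_eq]
  refine lin_core inferInstance (ab2_of_surjective h2 (QuotientGroup.mk'_surjective _)) p2 ?_
    (kerRep_injective (ρ := ρ)) ?_
  · have hW : (⊤ : Submodule (AlgebraicClosure (ZMod p)) W) ≠ ⊥ :=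
      haveI := h.nontrivial_iff.2 hV.ne_bot
      top_ne_bot
    have h1 := (isInv_top (ρ := kerRep ρ) _).inf_fix_ne_bot_of_isPGroup (Op_isPGroup p ⊤) hW
    haveI := normalIn_top.1 (Op_normal p (⊤ : Subgroup (G ⧸ ρ.ker)))
    have h3 := hV.le_of_inf_ne_bot (K := 𝐂((Op p ⊤).comap (QuotientGroup.mk' ρ.ker))) fun e =>
      h1 (eq_bot_iff.2 (h.fix_eq_bot_iff.2 e ▸ fun w hw => mem_fix.2 fun g hg =>
        mem_fix.1 hw.2 _ hg))
    refine eq_bot_iff.2 fun x hx => ?_
    obtain ⟨x, rfl⟩ := QuotientGroup.mk'_surjective _ x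
    exact (QuotientGroup.eq_one_iff x).2 (h.ker_eq ▸ le_cent_symm h3 hx)
  · have h1 := h.card_fix (zpowers y)
    rw [cent_zpowers] at h1
    rw [h1, fix_zpowers] at hc
    have h3 := finrank_ker_pow_le (ρ y - 1) p
    have h4 := sub_one_pow_char_pow (ρ := ρ) (p := p) y 1
    rw [pow_one, hy, map_one, sub_self] at h4
    rw [h4, LinearMap.ker_zero, finrank_top] at h3
    exact h3.trans (mul_le_of_le_one_right' ((Nat.pow_le_pow_iff_right hp.out.one_lt).1
      (by rwa [pow_one])))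

end Cfsg.Agent.SE
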