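import Cfsg.Agent.Lib.SE.N1
import Cfsg.Agent.Lib.SE.Lin
import Cfsg.Agent.Lib.Mod.Faithful

/-!
# The involutions of a solvable strongly embedded subgroup centralize its Fitting subgroup
-/

set_option autoImplicit false

namespace Cfsg.Agent.SE

open Subgroup Cfsg.Agent.OO Cfsg.Agent.ZL Cfsg.Agent.R1 Cfsg.Agent.Mod
open scoped Pointwise commutatorElement

universe u

variable {G : Type u} [Group G] [Finite G] {A B C F M N X Y : Subgroup G} {p : ℕ} {t u y : G}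

theorem card_le_cent (h : ∀ x ∈ Y, ⁅x, y⁆ ∈ C) : ♯Y ≤ ♯(Y ⊓ 𝐂[y]) * ♯C := by
  rw [← card_mul_relIndex (inf_le_left : Y ⊓ 𝐂[y] ≤ Y), inf_relIndex_left, ← GW.ncard_conj]
  refine Nat.mul_le_mul_left _ ((Set.ncard_le_ncard (t := (· * y) '' C) ?_).trans_eq ?_)
  · rintro _ ⟨x, hx, rfl⟩
    exact ⟨_, h x hx, by simp [commutatorElement_def]⟩
  · rw [Set.ncard_image_of_injective _ (mul_left_injective y)]
    rfl

omit [Finite G] in
theorem norm_inf_conj (h : u * u = 1) (K : Subgroup G) : u ∈ 𝐍(K ⊓ u •ᶜ K) := by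
  rw [← conj_eq_self_iff, conj_inf, conj_conj, h, map_one, one_smul, inf_comm]

/-- the involutions of `M` are permuted transitively by `M ∩ Mᵘ` -/
theorem relIndex_cent (h : SE M) (hu : u ∉ M) (u2 : orderOf u = 2) (ht : t ∈ M) (t2 : orderOf t = 2) :
    𝐂[t].relIndex M = 𝐂[t].relIndex (M ⊓ u •ᶜ M) := by
  rw [← GW.ncard_conj, ← GW.ncard_conj]
  congr 1
  refine (Set.image_mono fun _ h => h.1).antisymm' ?_
  rintro _ ⟨m, hm, rfl⟩
  obtain ⟨k, hk, -, e⟩ := h.exists_conj hu u2 ht t2 (mul_mem (mul_mem hm ht) (inv_mem hm))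
    ((orderOf_conj m t).trans t2)
  exact ⟨k, hk, e⟩

variable [hp : Fact p.Prime]

theorem exists_norm_zpowers (hY : IsPGroup p Y) (h0 : Y ≠ ⊥) (u2 : u * u = 1) (hu : u ∈ 𝐍(Y)) :
    ∃ y ∈ Y, y ≠ 1 ∧ y ^ p = 1 ∧ u ∈ 𝐍(zpowers y) := by
  obtain ⟨w, hw, w1, e⟩ : ∃ w ∈ Y, w ≠ 1 ∧ u ∈ 𝐍(zpowers w) := by
    obtain ⟨z, hz, z1⟩ := exists_mem_ne_one h0
    by_cases e : z⁻¹ * (u * z * u⁻¹) = 1
    · exact ⟨z, hz, z1, by rw [← conj_eq_self_iff, conj_zpowers, ← inv_mul_eq_one.1 e]⟩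
    · exact ⟨_, mul_mem (inv_mem hz) (conj_mem_of_norm hu hz), e, by
        rw [← conj_eq_self_iff, conj_zpowers, inv_comm u2, zpowers_inv]⟩
  obtain ⟨A, hA⟩ := exists_isEp_one_of_isPGroup (hY.to_le (zpowers_le.2 hw)) (zpowers_ne_bot.2 w1)
  obtain ⟨y, hy, y1, rfl⟩ := hA.exists_zpowers
  exact ⟨y, zpowers_le.2 hw hy, zpowers_ne_bot.1 (hA.ne_bot one_ne_zero), y1 ▸ pow_orderOf_eq_one y,
    norm_le_norm_of_isCyclic inferInstance hA.le e⟩

theorem relIndex_le_of_not_dvd (hX : IsPGroup p X) {K : Subgroup G} (h : ¬ p ^ 2 ∣ K.relIndex X) :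
    K.relIndex X ≤ p := by
  obtain ⟨k, e⟩ := (Coprime.isPiNum_singleton_iff hp.out (relIndex_pos _ _).ne').1
    ((piGrp_singleton hX).relIndex K)
  rw [e] at h ⊢
  exact (Nat.pow_le_pow_right hp.out.pos
    (by_contra fun e => h (pow_dvd_pow p (by omega)) : k ≤ 1)).trans_eq (pow_one p)

theorem MinN.exists_K (h : MinN M N p) (hs : Sol M) (h2 : Ab2 G) (hy : y ∈ M) (yp : y ^ p = 1)
    (hc : ♯(N ⊓ 𝐂[y]) ≤ p) :
    ∃ K, M ≤ 𝐍(K) ∧ ¬ p ^ 2 ∣ K.relIndex M ∧ ∀ k ∈ K, ∀ x ∈ N, ⁅x, k⁆ ∈ Cn M N := by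
  haveI := h.Cn_normal.subgroupOf
  let π := QuotientGroup.mk' ((Cn M N).subgroupOf M)
  have hπ : Function.Surjective π := QuotientGroup.mk'_surjective _
  have k : ∀ x : M, π x = 1 ↔ x.1 ∈ Cn M N := fun x => QuotientGroup.eq_one_iff x
  have hN := h.normal.le
  have k1 : pre π (im π N) ≤ N := by
    rintro _ ⟨x, ⟨n, hn, e⟩, rfl⟩
    exact (N.mul_mem_cancel_left (inv_mem hn)).1
      ((k (n⁻¹ * x)).1 (by rw [map_mul, map_inv, e, inv_mul_cancel])).1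
  have k2 : ∀ x y : M, π x * π y = π y * π x ↔ ⁅x.1, y.1⁆ ∈ Cn M N := fun x y => by
    rw [← commutatorElement_eq_one_iff_mul_comm, ← map_commutatorElement, k]
    rfl
  have hV : Core.IsMinNormal (im π N) := ⟨h.normal.subgroupOf.map π hπ, fun e => h.nc
    (le_cent_symm fun x hx => ((k ⟨x, hN hx⟩).1 (mem_bot.1 (e ▸ mem_im π hx))).2),
    fun W hW hWV => by
      rcases ((map_mono (comap_mono hWV)).trans k1).eq_or_lt with e | e
      · exact .inr (hWV.antisymm ((le_pre π hN).1 e.ge))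
      · refine .inl (eq_bot_iff.2 fun w hw => ?_)
        obtain ⟨x, rfl⟩ := hπ w
        exact (k x).2 (h.le_Cn e (normalIn_map_subtype _).norm ⟨x, hw, rfl⟩)⟩
  haveI := hV.normal
  refine ⟨pre π 𝐂(im π N), (normalIn_map_subtype _).norm, ?_, ?_⟩
  · rw [relIndex, subgroupOf, comap_map_eq_self_of_injective M.subtype_injective,
      index_comap_of_surjective _ hπ]
    refine lin inferInstance (ab2_of_surjective (ab2_sub h2 M) hπ) h.p2 hV (y := π ⟨y, hy⟩)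
      ⟨ab_iff.2 ?_, ?_⟩ (by rw [← map_pow]; exact (k _).2 (by simp [yp])) ?_
    · rintro _ ⟨a, ha, rfl⟩ _ ⟨b, hb, rfl⟩
      exact (k2 a b).2 (h.der_le (commutator_mem_commutator ha hb))
    · rintro _ ⟨a, ha, rfl⟩
      rw [← map_pow]
      exact (k _).2 (by simp [h.pow_eq_one (show a.1 ∈ N from ha)])
    · have h1 := (map_mono (comap_mono (inf_le_left (b := 𝐂[π ⟨y, hy⟩])))).trans k1
      have h3 := card_le_cent (Y := pre π (im π N ⊓ 𝐂[π ⟨y, hy⟩])) (y := y) (C := Cn M N)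
        fun x hx => (k2 ⟨x, hN (h1 hx)⟩ ⟨y, hy⟩).1 (mem_cent1.1 ((mem_pre π (hN (h1 hx))).1 hx).2)
      rw [Core.card_map_subtype, Core.card_comap_mk, Core.card_subgroupOf_of_le h.Cn_normal.le,
        mul_comm] at h3
      exact (Nat.le_of_mul_le_mul_right h3 Nat.card_pos).trans
        ((OO.card_le (inf_le_inf_right _ h1)).trans hc)
  · rintro _ ⟨a, ha, rfl⟩ x hx
    exact (k2 ⟨x, hN hx⟩ a).1 (mem_cent_iff.1 ha _ (mem_im π (x := ⟨x, hN hx⟩) hx))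

theorem MinN.false (h : MinN M N p) (H : UH M B p) (hF : IsEp p 3 F N) (hB : B ≤ F) (ht : t ∈ M)
    (t1 : t ≠ 1) (t2 : t * t = 1) (hi : ∀ x ∈ F, t * x * t⁻¹ = x⁻¹) (hc : ¬ N ⊓ 𝐂[t] ≤ Cn M N) :
    False := by
  have h4 := h.card_le hF ht t2 hi hc
  obtain ⟨u, hu, uo⟩ := h.se.exists_out
  have u2 := sq_of_two uo
  have k1 : ∀ y ∈ M, y ≠ 1 → u ∈ 𝐍(zpowers y) → ∀ E, ¬ IsEp p 3 E (M ⊓ 𝐂[y]) :=
    fun y hy y1 hn E hE => hu (H.uniq3 (hF.mono h.le) hB (hE.mono inf_le_left)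
      (H.norm_ne_top (zpowers_ne_bot.2 y1) (zpowers_le.2 hy))
      (hE.le.trans (inf_le_right.trans (cent_zpowers y ▸ cent_le_norm _))) hn)
  have k2 : ∀ y ∈ M, y ≠ 1 → u ∈ 𝐍(zpowers y) → ¬ ∀ x ∈ N, ⁅x, y⁆ ∈ Cn M N := fun y hy y1 hn e => by
    have h2 := h.isPGroup.to_inf_left (K := 𝐂[y])
    refine (Nat.pow_lt_pow_right hp.out.one_lt (by norm_num : 3 < 4)).not_ge
      ((Nat.le_of_mul_le_mul_right (h4.trans (card_le_cent e)) Nat.card_pos).trans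
        (rank2_exponent_p_p3group h2 (by_contra fun e => ?_) fun x hx => h.pow_eq_one hx.1))
    rw [rank_eq_rp h2] at e
    obtain ⟨E, hE⟩ := exists_isEp (Nat.succ_le_of_lt (not_le.1 e))
    exact k1 y hy y1 hn E (hE.mono (inf_le_inf_right _ h.normal.le))
  have k3 : ∀ y ∈ M, y ≠ 1 → y ^ p = 1 → u ∈ 𝐍(zpowers y) → ♯(N ⊓ 𝐂[y]) ≤ p :=
    fun y hy y1 yp hn => by
      by_cases e : IsCyclic (N ⊓ 𝐂[y] : Subgroup G)
      · obtain ⟨x, e⟩ := exists_zpowers_eq e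
        rw [← e, Nat.card_zpowers]
        exact Nat.le_of_dvd hp.out.pos
          (orderOf_dvd_of_pow_eq_one (h.pow_eq_one (e.le (mem_zpowers x)).1))
      rw [isCyclic_iff_rp_of_odd h.isPGroup.to_inf_left (GW.odd_of_le h.odd inf_le_left)] at e
      obtain ⟨E, hE⟩ := exists_isEp (Nat.succ_le_of_lt (not_le.1 e))
      exact (k1 y hy y1 hn _ ((hE.mono (inf_le_inf_right _ h.normal.le)).sup_one
        (isEp_zpowers ⟨hy, mem_cent1.2 rfl⟩ (orderOf_eq_prime yp y1))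
        (zpowers_le.2 (le_cent1_iff.1 (hE.le.trans inf_le_right))) fun e => k2 y hy y1 hn fun x hx =>
          h.der_le (commutator_mem_commutator hx (hE.le (zpowers_le.1 e)).1))).elim
  have hD := Nat.not_even_iff_odd.1 fun e => h.se.odd u hu (even_iff_two_dvd.1 e)
  obtain ⟨X, hX, hn⟩ := Coprime.exists_invariant_sylow p (zpowers_le.2 (norm_inf_conj u2 M))
    (GW.coprime_zp hD u2).symm (.inr (GW.sol_of_odd hD))
  have hXM := hX.le.trans inf_le_left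
  have h3 : p ^ 3 ∣ ♯X := by
    obtain ⟨k, e⟩ := (Coprime.isPiNum_singleton_iff hp.out (relIndex_pos _ _).ne').1
      ((piGrp_singleton h.isPGroup).relIndex 𝐂[t])
    have h1 := relIndex_le_of_le_right hF.le (relIndex_pos 𝐂[t] N).ne'
    rw [← inf_relIndex_right, (eq_bot_iff (a := 𝐂[t] ⊓ F)).2 fun x hx => eq_one_of_inv
      (GW.odd_of_mem h.odd (hF.le hx.2)) (hi x hx.2) (mem_cent1_comm.1 hx.1), relIndex_bot_left,
      hF.card, e] at h1
    have h5 : 𝐂[t].relIndex N ∣ 𝐂[t].relIndex M := by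
      rw [← inf_relIndex_left M, ← relIndex_mul_relIndex _ _ _ (le_sup_right (a := N))
        (sup_le h.normal.le inf_le_left), relIndex_sup_eq (.inr (inf_le_left.trans h.norm)),
        ← inf_relIndex_right (M ⊓ _) N, inf_right_comm, inf_eq_right.2 h.normal.le,
        inf_relIndex_left]
      exact dvd_mul_right _ _
    rw [relIndex_cent h.se hu uo ht (GW.orderOf_eq_two t2 t1), e] at h5
    refine (Nat.Coprime.pow_left 3 (hp.out.coprime_iff_not_dvd.2 hX.not_dvd)).dvd_of_dvd_mul_right ?_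
    rw [card_mul_relIndex hX.le]
    exact ((pow_dvd_pow p ((Nat.pow_le_pow_iff_right hp.out.one_lt).1 h1)).trans h5).trans
      (relIndex_dvd_card _ _)
  have h5 := (Nat.pow_lt_pow_right hp.out.one_lt (by norm_num : 2 < 3)).trans_le
    (Nat.le_of_dvd Nat.card_pos h3)
  replace hn := zpowers_le.1 hn
  obtain ⟨y, hy, y1, yp, yn⟩ := exists_norm_zpowers hX.isPGroup (fun e => by
    rw [e, card_bot] at h5
    exact h5.not_ge (Nat.one_le_pow _ _ hp.out.pos)) u2 hn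
  obtain ⟨K, hK, h6, h7⟩ := h.exists_K H.sol H.ab2 (hXM hy) yp (k3 y (hXM hy) y1 yp yn)
  have h8 := relIndex_le_of_not_dvd hX.isPGroup fun e => h6 (e.trans (relIndex_dvd_of_le_norm hXM hK))
  have h9 : K ⊓ u •ᶜ K ⊓ X = ⊥ := by_contra fun e => by
    obtain ⟨z, hz, z1, -, zn⟩ := exists_norm_zpowers hX.isPGroup.to_inf_right e u2
      (zpowers_le.1 (le_norm_inf (zpowers_le.2 (norm_inf_conj u2 K)) (zpowers_le.2 hn)))
    exact k2 z (hXM hz.2) z1 zn (h7 z hz.1.1)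
  have h10 := relIndex_inf_le (H := K) (K := u •ᶜ K) (L := X)
  rw [← inf_relIndex_right, h9, relIndex_bot_left, ← conj_eq_of_mem_norm hn, relIndex_conj,
    conj_eq_of_mem_norm hn] at h10
  exact h5.not_ge (h10.trans (sq p ▸ Nat.mul_le_mul h8 h8))

end Cfsg.Agent.SE
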