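import Cfsg.Agent.Lib.SE.Uniq

/-!
# A minimal normal `p`-subgroup of `M` that is not centralized by the involutions of `M`
-/

set_option autoImplicit false

namespace Cfsg.Agent.SE

open Subgroup Cfsg.Agent.OO Cfsg.Agent.ZL Cfsg.Agent.R1
open scoped Pointwise commutatorElement

universe u

variable {G : Type u} [Group G] {A B M N X Y : Subgroup G} {p : ℕ} {a b c s t x y : G}

theorem inv_zpowers (h : t * b * t⁻¹ = b⁻¹) : ∀ x ∈ zpowers b, t * x * t⁻¹ = x⁻¹ := by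
  rintro _ ⟨k, rfl⟩
  simp only [← conj_zpow, h, inv_zpow]

theorem inv_sup (hc : Y ≤ 𝐂(X)) (hX : ∀ x ∈ X, t * x * t⁻¹ = x⁻¹) (hY : ∀ x ∈ Y, t * x * t⁻¹ = x⁻¹) :
    ∀ x ∈ X ⊔ Y, t * x * t⁻¹ = x⁻¹ := fun z hz => by
  obtain ⟨x, hx, y, hy, rfl⟩ := (mem_sup_norm_left (le_norm_of_le_cent hc)).1 hz
  rw [← conj_mul, hX x hx, hY y hy, ← mul_inv_rev, mem_cent_iff.1 (hc hy) x hx]

theorem eq_one_of_inv (ho : Odd (orderOf x)) (h : t * x * t⁻¹ = x⁻¹) (hc : t ∈ 𝐂[x]) : x = 1 :=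
  GW.eq_one_of_odd_of_sq ho (mul_eq_one_iff_eq_inv.2 ((mem_cent1_iff_conj.1 hc).symm.trans h))

theorem inv_comm (h : t * t = 1) (y : G) :
    t * (y⁻¹ * (t * y * t⁻¹)) * t⁻¹ = (y⁻¹ * (t * y * t⁻¹))⁻¹ := by
  rw [show t * (y⁻¹ * (t * y * t⁻¹)) * t⁻¹ = t * y⁻¹ * t * y * (t * t)⁻¹ by group, h,
    show (y⁻¹ * (t * y * t⁻¹))⁻¹ = t * y⁻¹ * t⁻¹ * y by group, GW.inv_eq h, inv_one, mul_one]

variable [Finite G]

theorem Ohm_le_cent (h : SE M) (hX : M ≤ 𝐍(X)) (hs : s ∈ M) (s1 : s ≠ 1) (s2 : s * s = 1)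
    (hc : s ∈ 𝐂(X)) : Ohm 2 M ≤ 𝐂(X) := Ohm_le_iff.2 fun t ht t2 => by
  by_cases t1 : t = 1
  · exact t1 ▸ one_mem _
  · obtain ⟨g, hg, rfl⟩ := se_class_in h hs s1 s2 ht t1 (by rwa [← sq])
    exact conj_mem_of_norm (le_norm_cent hX hg) hc

theorem exists_weight (hA : IsElementaryAbelian 2 A) (hn : A ≤ 𝐍(N)) (ho : Odd ♯N) (hx : x ∈ A)
    (hc : x ∉ 𝐂(N)) : ∃ B ≤ A, B.relIndex A = 2 ∧ x ∉ B ∧ ∃ b ∈ N, b ≠ 1 ∧ B ≤ 𝐂[b] ∧
      ∀ a ∈ A, a ∉ B → a * b * a⁻¹ = b⁻¹ := by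
  obtain ⟨B, hB, hi, h⟩ : ∃ B ≤ A, B.relIndex A = 2 ∧ ¬ N ⊓ 𝐂(B) ≤ 𝐂[x] := by
    by_contra! h
    exact hc (le_cent1_iff.1 (Coprime.le_of_forall_hyperplane (abelem_ab hA) hA.2
      (fun e => hc (mem_bot.1 (e ▸ hx) ▸ one_mem _)) hn
      (coprime_of_isPGroup (abelem_isPGroup hA) (GW.odd_iff.1 ho)) h))
  have hxB : x ∉ B := fun e => h (inf_le_right.trans (cent_le_cent1 e))
  obtain ⟨y, hy, hyx⟩ := SetLike.not_le_iff_exists.1 h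
  have h1 : y⁻¹ * (x * y * x⁻¹) ∈ N ⊓ 𝐂(B) := mul_mem (inv_mem hy) (conj_mem_of_norm
    (le_norm_inf hn (le_norm_cent (le_norm_of_ab (abelem_ab hA) hB)) hx) hy)
  have x2 : x * x = 1 := by rw [← sq]; exact hA.2 x hx
  have h2 := inv_comm x2 y
  refine ⟨B, hB, hi, hxB, _, h1.1, fun e => hyx (mem_cent1_comm.1 (mem_cent1_iff_conj.2
    (inv_mul_eq_one.1 e).symm)), le_cent1_iff.2 h1.2, fun a ha haB => ?_⟩
  have h3 : a * x ∈ B := (mul_mem_iff_of_index_two (H := B.subgroupOf A) hi (a := ⟨a, ha⟩)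
    (b := ⟨x, hx⟩)).2 (iff_of_false haB hxB)
  have h4 := mem_cent1_iff_conj.1 (cent1_inv (y⁻¹ * (x * y * x⁻¹)) ▸ le_cent1_iff.2 h1.2 h3)
  generalize y⁻¹ * (x * y * x⁻¹) = b at *
  rw [← h4, ← h2, show a * x * (x * b * x⁻¹) * (a * x)⁻¹ = a * (x * x) * b * (x * x)⁻¹ * a⁻¹ by group,
    x2]
  group

/-- `N` is a minimal normal `p`-subgroup of `M` that is not centralized by the involutions -/
structure MinN (M N : Subgroup G) (p : ℕ) : Prop where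
  se : SE M
  p2 : p ≠ 2
  le : N ≤ Op p M
  norm : M ≤ 𝐍(N)
  nc : ¬ Ohm 2 M ≤ 𝐂(N)
  min : ∀ X < N, M ≤ 𝐍(X) → Ohm 2 M ≤ 𝐂(X)

theorem exists_minN (h : SE M) (p2 : p ≠ 2) (hc : ¬ Ohm 2 M ≤ 𝐂(Op p M)) : ∃ N, MinN M N p := by
  obtain ⟨N, ⟨h1, h2, h3⟩, hmin⟩ := exists_minimal_of_wellFoundedLT
    (fun N => N ≤ Op p M ∧ M ≤ 𝐍(N) ∧ ¬ Ohm 2 M ≤ 𝐂(N)) ⟨_, le_rfl, (Op_normal p M).norm, hc⟩
  exact ⟨N, h, p2, h1, h2, h3, fun X hX hn => by_contra fun e =>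
    hX.not_ge (hmin ⟨hX.le.trans h1, hn, e⟩ hX.le)⟩

/-- the centralizer in `N` of the involutions of `M` -/
abbrev Cn (M N : Subgroup G) : Subgroup G := N ⊓ 𝐂(Ohm 2 M)

namespace MinN

variable [hp : Fact p.Prime] (h : MinN M N p)
include h

omit hp in
theorem isPGroup : IsPGroup p N := (Op_isPGroup p M).to_le h.le

theorem odd : Odd ♯N := GW.odd_of_isPGroup h.p2 h.isPGroup

omit hp in
theorem normal : N ⊴ M := ⟨h.le.trans (Op_le p M), h.norm⟩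

omit hp in
theorem not_mem (hs : s ∈ M) (s1 : s ≠ 1) (s2 : s * s = 1) : s ∉ 𝐂(N) :=
  fun e => h.nc (Ohm_le_cent h.se h.norm hs s1 s2 e)

omit hp in
theorem Cn_normal : Cn M N ⊴ M :=
  ⟨inf_le_left.trans h.normal.le, le_norm_inf h.norm (le_norm_cent (Ohm_normal 2 M).norm)⟩

omit hp in
theorem le_Cn (hX : X < N) (hn : M ≤ 𝐍(X)) : X ≤ Cn M N := le_inf hX.le (le_cent_symm (h.min X hX hn))

theorem der_le : der N ≤ Cn M N :=
  h.le_Cn (der_lt (sol_of_isPGroup h.isPGroup) fun e => h.nc (by rw [e, cent_bot]; exact le_top))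
    h.normal.der.norm

theorem commutator_eq : ⁅N, Ohm 2 M⁆ = N := by
  have h1 := commutator_le_left' ((Ohm_le 2 M).trans h.norm)
  refine h1.eq_of_not_lt fun e => ?_
  have h2 := h.min _ e (h.normal.commutator (Ohm_normal 2 M)).norm
  obtain ⟨s, hs, s1, s2⟩ := exists_inv h.se.even
  have h3 := zpowers_le.2 (mem_Ohm hs (show s ^ 2 = 1 by rwa [sq]))
  exact h.not_mem hs s1 s2 (zpowers_le.1 (commutator_eq_bot_iff'.1
    (Coprime.commutator_eq_bot_of_commutator_commutator_eq_bot (zpowers_le.2 (h.norm hs))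
      (GW.coprime_zp h.odd s2).symm (commutator_eq_bot_iff'.2
        (le_cent_mono h2 h3 (commutator_mono le_rfl h3))))))

theorem Cn_le : Cn M N ≤ 𝐂(N) := by
  have := three_subgroup (A := N) (B := Cn M N) (H := Ohm 2 M)
    (commutator_eq_bot_iff.2 (((commutator_mono le_rfl inf_le_left).trans h.der_le).trans
      inf_le_right)) (by rw [commutator_eq_bot_iff.2 inf_le_right, commutator_bot_left])
  rw [commutator_comm (Ohm 2 M), h.commutator_eq] at this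
  exact commutator_eq_bot_iff'.1 this

theorem pow_eq_one (hx : x ∈ N) : x ^ p = 1 := by
  refine (exponent_odd_nil23 h.isPGroup h.odd (.inl ((nilpotencyClass_le_two_iff
    (nil_of_isPGroup h.isPGroup)).2 (le_inf (OO.der_le N) (h.der_le.trans h.Cn_le))))).1 x ?_
  rwa [(Ohm_le p N).eq_of_not_lt fun e => ?_]
  obtain ⟨s, hs, s1, s2⟩ := exists_inv h.se.even
  exact h.not_mem hs s1 s2 (zpowers_le.1 (coprime_odd_faithful_Ohm1 h.isPGroup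
    (zpowers_le.2 (h.norm hs)) (GW.coprime_zp h.odd s2) h.odd
    (zpowers_le.2 (h.min _ e (h.normal.Ohm p).norm (mem_Ohm hs (by rwa [sq]))))))

theorem isEp (hb : b ∈ N) (b1 : b ≠ 1) : IsEp p 1 (zpowers b) N :=
  isEp_zpowers hb (orderOf_eq_prime (h.pow_eq_one hb) b1)

theorem comm (hb : b ∈ N) (hc : c ∈ N) (ha : a ∈ Ohm 2 M) (h1 : a ∈ 𝐂[b])
    (h2 : a * c * a⁻¹ = c⁻¹) : zpowers c ≤ 𝐂(zpowers b) := by
  have h3 := h.der_le (commutator_mem_commutator hb hc)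
  have h4 := mem_cent_iff.1 (h.Cn_le h3) c hc
  rw [cent_zpowers, zpowers_le, mem_cent1_comm, mem_cent1, ← commutatorElement_eq_one_iff_mul_comm]
  refine eq_one_of_inv (t := a) (GW.odd_of_mem h.odd h3.1) ?_ (le_cent1_iff.2 h3.2 ha)
  rw [conjugate_commutatorElement, mem_cent1_iff_conj.1 h1, h2, eq_inv_iff_mul_eq_one,
    show ⁅b, c⁻¹⁆ * ⁅b, c⁆ = b * c⁻¹ * b⁻¹ * (c * ⁅b, c⁆) by simp [commutatorElement_def, mul_assoc], h4]
  simp [commutatorElement_def, mul_assoc]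

theorem good (hs : s ∈ M) (s1 : s ≠ 1) (s2 : s * s = 1) (t2 : t * t = 1) (hb : b ∈ N) (b1 : b ≠ 1)
    (h1 : s ∈ 𝐂[b]) (h2 : t * b * t⁻¹ = b⁻¹) : 𝐂[b] ≤ M := by
  have h3 : t ∉ 𝐂[b] := fun e => b1 (eq_one_of_inv (GW.odd_of_mem h.odd hb) h2 e)
  rw [← cent_zpowers] at h1 h3 ⊢
  exact (cent_le_norm _).trans (se_le_of_not_conj h.se (cent_le_norm _ h1) hs s1 s2
    (by rw [← conj_eq_self_iff, conj_zpowers, h2, zpowers_inv]) (fun e : t = 1 => h3 (by rw [e]; exact one_mem _)) t2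
    fun g hg e => h3 (e ▸ conj_mem_of_norm (norm_le_norm_cent _ hg) h1))

theorem exists_three (hA : IsElementaryAbelian 2 A) (h8 : 8 ≤ ♯A) (hAM : A ≤ M) :
    ∃ B F t, IsEp p 2 B N ∧ IsEp p 3 F N ∧ B ≤ F ∧ (∀ b ∈ B, b ≠ 1 → 𝐂[b] ≤ M) ∧ t ∈ M ∧ t ≠ 1 ∧
      t * t = 1 ∧ (∀ x ∈ F, t * x * t⁻¹ = x⁻¹) ∧ ¬ N ⊓ 𝐂[t] ≤ Cn M N := by
  have sq : ∀ a ∈ A, a * a = 1 := fun a ha => by rw [← sq]; exact hA.2 a ha
  have hO := le_Ohm hAM hA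
  have wt : ∀ x ∈ A, x ≠ 1 → _ := fun x hx x1 =>
    exists_weight hA (hAM.trans h.norm) h.odd hx (h.not_mem (hAM hx) x1 (sq x hx))
  obtain ⟨x, hx, x1⟩ := exists_mem_ne_one (H := A) fun e => by simp [e] at h8
  obtain ⟨B₁, l1, i1, x0, b₁, n1, o1, c1, v1⟩ := wt x hx x1
  have e1 := card_mul_relIndex l1
  obtain ⟨r, hr, r1⟩ := exists_mem_ne_one (H := B₁) fun e => by
    rw [i1, e, card_bot] at e1
    omega
  obtain ⟨B₂, l2, i2, r0, b₂, n2, o2, c2, v2⟩ := wt r (l1 hr) r1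
  obtain ⟨s, hs, s1⟩ := exists_mem_ne_one (H := B₁ ⊓ B₂) fun e => by
    have := relIndex_inf_le (H := B₁) (K := B₂) (L := A)
    rw [e, i1, i2, relIndex_bot_left] at this
    omega
  obtain ⟨B₃, l3, i3, s0, b₃, n3, o3, c3, v3⟩ := wt s (l1 hs.1) s1
  obtain ⟨t, ht, t1, t2, t3⟩ : ∃ t ∈ A, t ∉ B₁ ∧ t ∉ B₂ ∧ t ∉ B₃ := by
    obtain ⟨t, ht, t1, t2⟩ : ∃ t ∈ A, t ∉ B₁ ∧ t ∉ B₂ := by
      by_cases e : x ∈ B₂
      · exact ⟨x * r, mul_mem hx (l1 hr), fun e' => x0 ((B₁.mul_mem_cancel_right hr).1 e'),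
          fun e' => r0 ((B₂.mul_mem_cancel_left e).1 e')⟩
      · exact ⟨x, hx, x0, e⟩
    by_cases e : t ∈ B₃
    · exact ⟨t * s, mul_mem ht (l1 hs.1), fun e' => t1 ((B₁.mul_mem_cancel_right hs.1).1 e'),
        fun e' => t2 ((B₂.mul_mem_cancel_right hs.2).1 e'),
        fun e' => s0 ((B₃.mul_mem_cancel_left e).1 e')⟩
    · exact ⟨t, ht, t1, t2, e⟩
  have k12 := h.comm n1 n2 (hO (l1 hr)) (c1 hr) (v2 r (l1 hr) r0)
  have k3 := cent_sup (zpowers b₁) (zpowers b₂) ▸ le_inf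
    (h.comm n1 n3 (hO (l1 hs.1)) (c1 hs.1) (v3 s (l1 hs.1) s0))
    (h.comm n2 n3 (hO (l1 hs.1)) (c2 hs.2) (v3 s (l1 hs.1) s0))
  have hB := (h.isEp n1 o1).sup_two (h.isEp n2 o2) k12 fun e => o2 (eq_one_of_inv
    (GW.odd_of_mem h.odd n2) (v2 r (l1 hr) r0) (cent1_le_of_mem_zpowers (e ▸ mem_zpowers b₂) (c1 hr)))
  have hsB : zpowers b₁ ⊔ zpowers b₂ ≤ 𝐂[s] :=
    sup_le (zpowers_le.2 (mem_cent1_comm.1 (c1 hs.1))) (zpowers_le.2 (mem_cent1_comm.1 (c2 hs.2)))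
  have hF := hB.sup_one (h.isEp n3 o3) k3 fun e => o3 (eq_one_of_inv (GW.odd_of_mem h.odd n3)
    (v3 s (l1 hs.1) s0) (mem_cent1_comm.1 (hsB (zpowers_le.1 e))))
  have hi := inv_sup k3 (inv_sup k12 (inv_zpowers (v1 t ht t1)) (inv_zpowers (v2 t ht t2)))
    (inv_zpowers (v3 t ht t3))
  have t0 : t ≠ 1 := fun e => t1 (e ▸ one_mem _)
  refine ⟨_, _, t, hB, hF, le_sup_left, fun b hb b1 => h.good (hAM (l1 hs.1)) s1 (sq s (l1 hs.1))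
    (sq t ht) (hB.le hb) b1 (mem_cent1_comm.1 (hsB hb)) (hi b (mem_sup_left hb)), hAM ht, t0,
    sq t ht, hi, fun e => ?_⟩
  obtain ⟨g, hg, e'⟩ := se_class_in h.se (hAM (l1 hs.1)) s1 (sq s (l1 hs.1)) (hAM ht) t0 (sq t ht)
  have h1 : g * b₁ * g⁻¹ ∈ g •ᶜ Cn M N := by
    rw [h.Cn_normal.conj_eq hg]
    refine e ⟨h.normal.conj_mem hg n1, ?_⟩
    rw [← e', cent1_conj]
    exact conj_mem_conj (mem_cent1_comm.1 (c1 hs.1))
  exact o1 (eq_one_of_inv (GW.odd_of_mem h.odd n1) (v1 t ht t1)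
    (le_cent1_iff.2 (conj_mem_conj_iff.1 h1).2 (hO ht)))

theorem card_le {F : Subgroup G} (hF : IsEp p 3 F N) (ht : t ∈ M) (t2 : t * t = 1)
    (hi : ∀ x ∈ F, t * x * t⁻¹ = x⁻¹) (hc : ¬ N ⊓ 𝐂[t] ≤ Cn M N) : p ^ 4 * ♯(Cn M N) ≤ ♯N := by
  have ho : ∀ x ∈ F, x ∈ 𝐂[t] → x = 1 := fun x hx e =>
    eq_one_of_inv (GW.odd_of_mem h.odd (hF.le hx)) (hi x hx) (mem_cent1_comm.1 e)
  have h1 : Cn M N ≤ 𝐂[t] := inf_le_right.trans (cent_le_cent1 (mem_Ohm ht (by rwa [sq])))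
  have hn := (hF.le.trans h.normal.le).trans h.Cn_normal.norm
  have h2 := card_sup_of_inf_eq_bot (.inl hn) (eq_bot_iff.2 fun x hx => ho x hx.1 (h1 hx.2))
  have h3 : F ⊔ Cn M N ≤ N := sup_le hF.le inf_le_left
  have h4 := card_mul_relIndex h3
  obtain ⟨k, hk⟩ := (Coprime.isPiNum_singleton_iff hp.out (relIndex_pos _ _).ne').1
    ((piGrp_singleton h.isPGroup).relIndex (F ⊔ Cn M N))
  have : k ≠ 0 := fun e => hc fun x hx => by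
    rw [e, pow_zero, relIndex_eq_one] at hk
    obtain ⟨f, hf, c, hc, rfl⟩ := (mem_sup_norm_right hn).1 (hk hx.1)
    rw [ho f hf (((𝐂[t]).mul_mem_cancel_right (h1 hc)).1 hx.2), one_mul]
    exact hc
  rw [← h4, h2, hk, hF.card, pow_succ, mul_right_comm]
  exact Nat.mul_le_mul_left _ (Nat.le_self_pow this p)

end MinN

end Cfsg.Agent.SE
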