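import Cfsg.Agent.Lib.SE.Act
import Cfsg.Agent.Lib.BSW.SL2Sub
import Cfsg.Agent.Lib.CIT.Solv
import Cfsg.Agent.Lib.R1.Hyp3

/-!
# No group of odd order is transitive on the involutions: `L₂(2ⁿ)` and the Ree case
-/

set_option autoImplicit false

namespace Cfsg.Agent.SE

open Subgroup Cfsg.Agent.OO MulAction
open scoped Pointwise MatrixGroups

universe u

variable {L : Type u} [Group L]

/-- `D` is transitive on the involutions -/
def TrI (D : Subgroup (MulAut L)) : Prop :=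
  ∀ s t : L, s ≠ 1 → s * s = 1 → t ≠ 1 → t * t = 1 → ∃ d ∈ D, d s = t

theorem aut_smul {p : ℕ} (ρ : MulAut L) (x : L) (P : Sylow p L) : ρ • x • P = ρ x • ρ • P := by
  rw [Sylow.smul_def, Sylow.smul_def, ← mul_smul, ← mul_smul]
  congr 1
  ext y
  simp

theorem aut_smul_cent (ρ : MulAut L) (x : L) : ρ • 𝐂[x] = 𝐂[ρ x] := by
  ext y
  rw [mem_pointwise_smul_iff_inv_smul_mem, mem_cent1, mem_cent1, ← ρ.injective.eq_iff]
  simp

variable [Finite L]

theorem ca_syl (hC : BSW.CA2 L) (P : Sylow 2 L) {x : L} (hx : x ∈ (P : Subgroup L)) (x1 : x ≠ 1) :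
    𝐂[x] = P ∧ x * x = 1 := by
  have h0 : Zc (P : Subgroup L) ≠ ⊥ :=
    Zc_ne_bot (nil_of_isPGroup P.2) fun e => x1 (mem_bot.1 (e ▸ hx))
  obtain ⟨w, hw, ho⟩ := cauchy Nat.prime_two (dvd_card_of_isPGroup (P.2.to_le (Zc_le _)) h0)
  have w1 : w ≠ 1 := fun e => by simp [e] at ho
  have w2 : w * w = 1 := by rw [← sq, ← ho, pow_orderOf_eq_one]
  have h1 : x * x = 1 := hC.el w x w1 w2 ((mem_Zc.1 hw).2 x hx)
  refine ⟨P.3 (fun y => ⟨1, Subtype.ext ?_⟩) fun y hy => ?_, h1⟩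
  · simpa [sq] using hC.el x y x1 h1 (mem_cent1.1 y.2)
  · exact mem_cent1.2 (hC.ca w y x w1 ((mem_Zc.1 hw).2 y hy) ((mem_Zc.1 hw).2 x hx))

theorem nb_ca (hC : BSW.CA2 L) (hs : IsSimpleGroup L) (hna : ¬ IsMulCommutative L) {z : L}
    (z1 : z ≠ 1) (z2 : z * z = 1) {D : Subgroup (MulAut L)} (hD : Odd ♯D) (tr : TrI D) : False := by
  obtain ⟨P, hP⟩ := (show IsPGroup 2 (zpowers z) from abelem_isPGroup
    (abelem_zpowers (by rw [sq, z2]))).exists_le_sylow
  have hz := zpowers_le.1 hP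
  have ez := (ca_syl hC P hz z1).1
  rcases BSW.dichotomy (H := P) (ez ▸ hC.cent_comm z1)
    (fun x hx x1 g hg => (ca_syl hC P hx x1).1 ▸ mem_cent1.2 hg) hz z1 z2 with
    ⟨N, h1, h2, h3⟩ | ⟨m, hm, h1, h2, h3, -⟩
  · rcases h1.eq_bot_or_eq_top with e | rfl
    · exact h2 e
    · exact hna ⟨⟨fun a b => ab_iff.1 h3 a trivial b trivial⟩⟩
  have h4 : 4 ≤ 2 ^ m := Nat.pow_le_pow_right (n := 2) (by norm_num) hm
  have hΩ : Nat.card (Sylow 2 L) = 1 + 2 ^ m := by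
    have h5 := card_mul_relIndex (le_norm_self (P : Subgroup L))
    have h6 := (𝐍((P : Subgroup L))).card_mul_index
    rw [← h5, h1, h2, h3, mul_comm (2 ^ m)] at h6
    rw [P.card_eq_index_normalizer]
    exact Nat.eq_of_mul_eq_mul_left (Nat.mul_pos (by omega) (by positivity)) h6
  have hsm : ∀ (d : MulAut L) (Q Q' : Sylow 2 L) (s : L), s ∈ (Q : Subgroup L) → s ≠ 1 →
      d s ∈ (Q' : Subgroup L) → d • Q = Q' := fun d Q Q' s h1 s1 h2 => Sylow.ext (by
    rw [Sylow.pointwise_smul_def, ← (ca_syl hC Q h1 s1).1, aut_smul_cent,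
      (ca_syl hC Q' h2 (by simpa using s1)).1])
  have hmem : ∀ d : MulAut L, d • P = P → ∀ s ∈ (P : Subgroup L), d s ∈ (P : Subgroup L) :=
    fun d hd s h => by
      rw [← hd, Sylow.pointwise_smul_def]
      exact smul_mem_pointwise_smul _ _ _ h
  have hfree : ∀ x ∈ (P : Subgroup L), ∀ Q : Sylow 2 L, Q ≠ P → x • Q = Q → x = 1 :=
    fun x hx Q hQ e => by
      by_contra x1
      have : x ∈ (P : Subgroup L) ⊓ Q := by
        rw [← P.2.inf_normalizer_sylow]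
        exact ⟨hx, Sylow.smul_eq_iff_mem_normalizer.1 e⟩
      exact hQ (Sylow.ext ((ca_syl hC Q this.2 x1).1.symm.trans (ca_syl hC P hx x1).1))
  have htr : ∀ Q Q' : Sylow 2 L, Q ≠ P → Q' ≠ P → ∃ x ∈ (P : Subgroup L), x • Q = Q' := by
    intro Q Q' hQ hQ'
    have h5 : {b | ∃ d ∈ (P : Subgroup L), d • Q = b} = {P}ᶜ := by
      refine Set.eq_of_subset_of_ncard_le ?_ ?_
      · rintro _ ⟨x, hx, rfl⟩ e
        refine hQ (smul_left_cancel x (Eq.trans e ?_))
        exact (Sylow.smul_eq_iff_mem_normalizer.2 (le_norm_self _ hx)).symm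
      · have h6 := card_inf_mul_relIndex (stabilizer L Q) P
        have h7 : stabilizer L Q ⊓ P = ⊥ := eq_bot_iff.2 fun x hx => hfree x hx.2 Q hQ hx.1
        have h8 := Set.ncard_add_ncard_compl ({P} : Set (Sylow 2 L))
        rw [h7, card_bot, relIndex_stabilizer, h1] at h6
        rw [Set.ncard_singleton, hΩ] at h8
        omega
    exact (h5.symm ▸ hQ' : Q' ∈ {b | ∃ d ∈ (P : Subgroup L), d • Q = b})
  obtain ⟨r, hr, hd⟩ := Nat.exists_prime_and_dvd (show 2 ^ m - 1 ≠ 1 by omega)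
  haveI := Fact.mk hr
  obtain ⟨R, hR⟩ := exists_syl r (D ⊓ stabilizer (MulAut L) P)
  have hfix : ∀ s ∈ (P : Subgroup L), (∀ x ∈ R, x s = s) → s = 1 := fun s h1s h => by
    by_contra s1
    have h5 : {b | ∃ d ∈ D ⊓ stabilizer (MulAut L) P, d • s = b} = sharp (P : Subgroup L) := by
      ext b
      refine ⟨?_, fun hb => ?_⟩
      · rintro ⟨d, hd, rfl⟩
        exact ⟨hmem d hd.2 s h1s, by simpa using s1⟩
      · obtain ⟨d, hd, e⟩ := tr s b s1 (ca_syl hC P h1s s1).2 hb.2 (ca_syl hC P hb.1 hb.2).2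
        exact ⟨d, ⟨hd, hsm d P P s h1s s1 (e ▸ hb.1)⟩, e⟩
    have h6 := relIndex_stabilizer (D ⊓ stabilizer (MulAut L) P) s
    rw [h5, ncard_sharp, h1] at h6
    exact hR.not_dvd ((h6 ▸ hd).trans (relIndex_dvd_of_le_left _ fun x hx => h x hx))
  obtain ⟨Q, hQ, hQR⟩ : ∃ Q : Sylow 2 L, Q ≠ P ∧ ∀ x ∈ R, x • Q = Q := by
    by_contra! h
    have h5 := hR.isPGroup.card_modEq_card_fixedPoints (Sylow 2 L)
    have h6 : fixedPoints R (Sylow 2 L) = {P} := by
      ext Q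
      refine ⟨fun hQ => by_contra fun e => ?_, ?_⟩
      · obtain ⟨x, hx, e'⟩ := h Q e
        exact e' (hQ ⟨x, hx⟩)
      · rintro rfl x
        exact (hR.le x.2).2
    rw [h6, hΩ, Nat.card_coe_set_eq, Set.ncard_singleton] at h5
    have h7 := (Nat.modEq_iff_dvd' (by omega)).1 h5.symm
    have h8 := (Nat.dvd_sub h7 hd)
    rw [show 1 + 2 ^ m - 1 - (2 ^ m - 1) = 1 by omega] at h8
    exact hr.one_lt.ne' (Nat.dvd_one.1 h8)
  obtain ⟨g, rfl⟩ := exists_smul_eq L P Q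
  have hg : g * z * g⁻¹ ∈ ((g • P : Sylow 2 L) : Subgroup L) := conj_mem_conj hz
  obtain ⟨d, hd, e⟩ := tr z _ z1 z2 (conj_ne_one.2 z1) (ca_syl hC _ hg (conj_ne_one.2 z1)).2
  refine witt hD hQ.symm hd (hsm d P _ z hz z1 (e ▸ hg)) hR hQR fun c hc => ?_
  refine or_iff_not_imp_left.2 fun hcP => ?_
  obtain ⟨x, hx, rfl⟩ := htr _ c hQ hcP
  rw [hfix x hx fun ρ hρ => ?_, one_smul]
  have h5 := hc ρ hρ
  rw [aut_smul, hQR ρ hρ, ← inv_smul_eq_iff, ← mul_smul] at h5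
  exact (inv_mul_eq_one.1 (hfree _ (mul_mem (inv_mem hx) (hmem ρ (hR.le hρ).2 x hx)) _ hQ h5)).symm

theorem two_ne_zero_of_mod {F : Type} [Field F] [Fintype F]
    (h : Fintype.card F % 8 = 3 ∨ Fintype.card F % 8 = 5) : (2 : F) ≠ 0 :=
  Ring.two_ne_zero fun e => by
    have := FiniteField.even_card_iff_char_two.1 e
    omega

theorem not_eight_dvd {F : Type} [Field F] [Fintype F]
    (h : Fintype.card F % 8 = 3 ∨ Fintype.card F % 8 = 5) : ¬ 8 ∣ Nat.card PSL(2, F) := by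
  have h1 := CIT.card_PSL2 (two_ne_zero_of_mod h)
  obtain ⟨n, hn⟩ : ∃ n, Fintype.card F = n + 1 := ⟨Fintype.card F - 1, by omega⟩
  rw [hn, Nat.add_sub_cancel] at h1
  have h2 : (n + 1) * (n * (n + 1 + 1)) % 16 = 8 := by
    rcases (by omega : n % 16 = 2 ∨ n % 16 = 4 ∨ n % 16 = 10 ∨ n % 16 = 12) with e | e | e | e <;>
      simp [Nat.mul_mod, Nat.add_mod, e]
  omega

theorem eight_dvd {E : Subgroup L} (hE : IsElementaryAbelian 2 E) (h8 : 8 ≤ ♯E) : 8 ∣ ♯E := by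
  obtain ⟨n, hn⟩ := (abelem_isPGroup hE).exists_card_eq
  rw [hn] at h8 ⊢
  exact pow_dvd_pow 2 (show 3 ≤ n from (Nat.pow_le_pow_iff_right one_lt_two).1 h8)

theorem nb_ree (hs : IsSimpleGroup L) {t : L} (t1 : t ≠ 1) (t2 : t * t = 1)
    (cj : ∀ a : L, a ≠ 1 → a * a = 1 → IsConj a t) {E : Subgroup L} (hE : IsElementaryAbelian 2 E)
    (h8 : 8 ≤ ♯E) {p : ℕ} [Fact p.Prime] (hΩ : Nat.card (Sylow p L) % 8 = 4)
    (h2 : IsMultiplyPretransitive L (Sylow p L) 2) {D : Subgroup (MulAut L)} (hD : Odd ♯D)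
    (tr : TrI D) : False := by
  classical
  haveI := Fintype.ofFinite L
  haveI := Fintype.ofFinite (Sylow p L)
  obtain ⟨P⟩ : Nonempty (Sylow p L) := inferInstance
  have hc : ∀ g : L, (Finset.univ.filter (fun Q : Sylow p L => t • Q = Q) |>.filter
      (fun Q => g • Q ∈ Finset.univ.filter fun Q => ∃ d ∈ D, d • P = Q)).card =
      (Finset.univ.filter fun Q : Sylow p L => t • Q = Q ∧ ∃ d ∈ D, d • P = Q).card := fun g => by
    obtain ⟨d, hd, e⟩ := tr t (g * t * g⁻¹) t1 t2 (conj_ne_one.2 t1) (by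
      rw [show g * t * g⁻¹ * (g * t * g⁻¹) = g * (t * t) * g⁻¹ by group, t2]; group)
    refine Finset.card_bij (fun Q _ => d⁻¹ • g • Q) (fun Q hQ => ?_)
      (fun Q _ Q' _ e => smul_left_cancel _ (smul_left_cancel _ e))
      fun Q hQ => ⟨g⁻¹ • d • Q, ?_, by simp⟩
    · simp only [Finset.mem_filter, Finset.mem_univ, true_and] at hQ ⊢
      obtain ⟨h1, d', hd', h3⟩ := hQ
      refine ⟨smul_left_cancel d ?_, d⁻¹ * d', mul_mem (inv_mem hd) hd', by rw [mul_smul, h3]⟩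
      rw [aut_smul, e, smul_inv_smul, mul_smul, mul_smul, inv_smul_smul, h1]
    · simp only [Finset.mem_filter, Finset.mem_univ, true_and] at hQ ⊢
      obtain ⟨h1, d', hd', h3⟩ := hQ
      refine ⟨smul_left_cancel g ?_, d * d', mul_mem hd hd', by rw [mul_smul, h3, smul_inv_smul]⟩
      rw [← mul_smul, ← mul_smul, ← e, ← aut_smul, h1, smul_inv_smul]
  refine (eq_univ_or (fun x y z w => is_two_pretransitive_iff.1 h2) (exists_smul_eq L) ?_
    ⟨P, by simpa using ⟨1, one_mem D, one_smul _ _⟩⟩ hc).elim (fun h => ?_) fun h => ?_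
  · by_contra h
    have h1 := dvd_ncard_of_free (E := E) (S := (Set.univ : Set (Sylow p L)))
      (fun _ _ _ _ => trivial) fun e he Q _ hQ => by_contra fun e1 => by
        obtain ⟨g, hg⟩ := isConj_iff.1 (cj e e1 (by rw [← sq]; exact hE.2 e he))
        refine h ⟨g • Q, ?_⟩
        simp only [Finset.mem_filter, Finset.mem_univ, true_and]
        rw [← hg, mul_smul, mul_smul, inv_smul_smul, hQ]
    have := (eight_dvd hE h8).trans h1
    rw [Set.ncard_univ] at this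
    omega
  · have ht : t ∈ (toPermHom L (Sylow p L)).ker := MonoidHom.mem_ker.2 (Equiv.ext fun Q =>
      show t • Q = Q from (Finset.mem_filter.1 (Finset.eq_univ_iff_forall.1 h Q)).2)
    rcases (inferInstance : (toPermHom L (Sylow p L)).ker.Normal).eq_bot_or_eq_top with e | e
    · exact t1 (mem_bot.1 (e ▸ ht))
    · have : Subsingleton (Sylow p L) := ⟨fun Q Q' => by
        obtain ⟨g, rfl⟩ := exists_smul_eq L Q Q'
        exact (congrArg (fun s : Equiv.Perm (Sylow p L) => s Q)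
          (MonoidHom.mem_ker.1 (e ▸ mem_top g : g ∈ (toPermHom L (Sylow p L)).ker))).symm⟩
      have := Finite.card_le_one_iff_subsingleton.2 this
      omega
  · have h1 := card_inf_mul_relIndex (stabilizer (MulAut L) P) D
    have h3 : {b | ∃ d ∈ D, d • P = b} = Set.univ := Set.eq_univ_of_forall fun Q =>
      (Finset.mem_filter.1 (h ▸ Finset.mem_univ Q)).2
    rw [relIndex_stabilizer, h3, Set.ncard_univ] at h1
    have := (h1 ▸ hD).of_dvd_nat (Dvd.intro_left _ rfl)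
    rw [Nat.odd_iff] at this
    omega

end Cfsg.Agent.SE
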