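import Cfsg.Agent.Lib.SE.K1
import Cfsg.Agent.Lib.ZL.Puig
import Cfsg.Agent.Lib.OO.BG4

/-!
# Uniqueness theorems for a solvable strongly embedded subgroup
-/

set_option autoImplicit false

namespace Cfsg.Agent.SE

open Subgroup Cfsg.Agent.OO Cfsg.Agent.ZL Cfsg.Agent.R1
open scoped Pointwise

universe u

variable {G : Type u} [Group G] [Finite G] {B E F H M P V Y : Subgroup G} {p : ℕ}

theorem exists_four (h2 : Ab2 G) (hs : ¬ Sol H) :
    ∃ V ≤ H, IsElementaryAbelian 2 V ∧ 2 < ♯V := by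
  obtain ⟨S, hS⟩ := exists_syl 2 H
  have ha := h2 S hS.isPGroup
  refine ⟨Ohm 2 S, (Ohm_le 2 S).trans hS.le, Ohm_abelem 2 ha, not_le.1 fun e => hs ?_⟩
  rw [card_Ohm_of_ab ha] at e
  have h := cyclic_pdiv_normal_complement hS ((isCyclic_iff_rp_of_ab hS.isPGroup ha).2
    ((Nat.pow_le_pow_iff_right one_lt_two).1 e)) fun q hq _ => hq.two_le
  rw [← h.sup_eq, sup_comm]
  exact sol_sup h.le_norm hS.sol (GW.sol_of_odd (GW.odd_O H))

theorem conj_le_of_even (h : SE M) (he : 2 ∣ ♯(M ⊓ H)) (hV : V ≤ H) (h2 : IsPGroup 2 V) :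
    ∃ g ∈ H, g •ᶜ V ≤ M := by
  obtain ⟨t, ht, t1, t2⟩ := exists_inv he
  obtain ⟨S, hS, e⟩ := exists_syl_ge (zpowers_le.2 ht.2) (isPGroup_zp t2)
  obtain ⟨g, hg, e'⟩ := hS.exists_conj_le hV h2
  exact ⟨g, hg, e'.trans (h.le_of_two hS.isPGroup (zpowers_le.1 e) ht.1 (GW.orderOf_eq_two t2 t1))⟩

/-- the standing hypotheses of the uniqueness theorems -/
structure UH (M B : Subgroup G) (p : ℕ) : Prop where
  simple : IsSimpleGroup G
  ab2 : Ab2 G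
  khyp : KHyp.{u} (Nat.card G)
  se : SE M
  sol : Sol M
  max : IsCoatom M
  four : ∃ V ≤ M, IsElementaryAbelian 2 V ∧ 2 < ♯V
  p2 : p ≠ 2
  odd : Odd ♯(Op' p M)
  ep : IsEp p 2 B (Op p M)
  good : ∀ b ∈ B, b ≠ 1 → 𝐂[b] ≤ M

namespace UH

variable [hp : Fact p.Prime] (h : UH M B p)
include h

theorem smp : GW.Smp (⊤ : Subgroup G) := @GW.smp_top _ _ h.simple

theorem norm_ne_top (h0 : Y ≠ ⊥) (hY : Y ≤ M) : 𝐍(Y) ≠ ⊤ :=
  h.smp.norm_ne_top h0 fun e => h.se.ne (eq_top_iff.2 (e ▸ hY))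

theorem stb (hs : Sol H) : Stb p H := ⟨hs, .inr ⟨h.p2, fun Q _ => h.ab2 Q⟩⟩

theorem normZ (hP : Syl p P M) : 𝐍(Zc (puig P)) ≤ M := by
  by_contra hn
  have hB := h.ep.le.trans (Op_le_syl hP)
  have h0 : Zc (puig P) ≠ ⊥ := fun e => h.ep.ne_bot two_ne_zero
    (eq_bot_iff.2 (trivg_center_Puig_pgroup hP.isPGroup e ▸ hB))
  have hZ := (ZL_le P).trans hP.le
  have hH := h.norm_ne_top h0 hZ
  obtain ⟨V, hVM, hVH, hV, h4⟩ : ∃ V ≤ M, V ≤ 𝐍(Zc (puig P)) ∧ IsElementaryAbelian 2 V ∧ 2 < ♯V := by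
    obtain ⟨V, hVM, hV, h4⟩ := h.four
    obtain ⟨S, hS⟩ := exists_syl 2 (M ⊓ 𝐍(Zc (puig P)))
    have h1 := relIndex_sup_eq (A := Op' p M) (B := M ⊓ 𝐍(Zc (puig P)))
      (.inr (inf_le_left.trans (Opi_normal _ M).norm))
    rw [factorisation (h.stb h.sol) hP] at h1
    obtain ⟨g, hg, e⟩ := (hS.hall.trans_of_relIndex inf_le_left fun q _ hq e => by
      rw [h1, show q = 2 from e] at hq
      exact Nat.not_even_iff_odd.2 h.odd
        (even_iff_two_dvd.2 (hq.trans (relIndex_dvd_card _ _)))).syl.exists_conj_le hVM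
          (abelem_isPGroup hV)
    exact ⟨_, conj_le_of_mem hg hVM, (e.trans hS.le).trans inf_le_right, abelem_conj.2 hV,
      by rwa [card_conj]⟩
  have h1 := (k1 h.khyp h.ab2 h.se h.sol hH hV h4 hVM hVH hn).1 (Op p M)
    ((Op_normal p M).mono (le_inf (Op_le p M) ((Op_le_syl hP).trans
      ((le_norm_self P).trans (norm_le_norm_center_puig P)))) inf_le_left)
    (GW.odd_of_isPGroup h.p2 (Op_isPGroup p M))
  have h2 := O_le h.se hV h4 hVM hVH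
  obtain ⟨g, hg, hgM⟩ := SetLike.not_le_iff_exists.1 hn
  have h3 := conj_eq_of_mem_norm (GW.O_norm _ hg)
  have h5 : g •ᶜ B ≤ M := (h3 ▸ conj_mono g (h.ep.le.trans h1)).trans h2
  have h6 : Fit M ≤ g •ᶜ M := Fit_le_of_forall fun q _ => by
    by_cases e : q = p
    · subst e
      exact h1.trans (h3 ▸ conj_mono g h2)
    · refine Coprime.le_of_forall_centralizer_le (h.ep.conj g).ab
        ((h.ep.conj g).not_isCyclic le_rfl) (h5.trans (Op_normal q M).norm)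
        (coprime_of_isPGroup_ne (h.ep.conj g).isPGroup (Op_isPGroup q M) (Ne.symm e))
        fun b hb b1 => inf_le_right.trans ?_
      obtain ⟨c, hc, rfl⟩ := mem_conj_iff_exists.1 hb
      rw [cent1_conj]
      exact conj_mono g (h.good c hc (conj_ne_one.1 b1))
  rcases h.smp.eq_or_char h.max (isCoatom_conj_iff.2 h.max)
    (GW.fs_of_sol (sol_of_le h.sol inf_le_left))
    (GW.fs_of_sol (sol_of_le (sol_conj.2 h.sol) inf_le_left)) (inf_le_left.trans h6)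
    (fun q _ e e' => e (by rw [Op_conj, e', conj_bot])) with e | ⟨q, hq, e, -⟩
  · exact hgM (h.se.norm_le le_rfl h.se.even (conj_eq_self_iff.1 e.symm))
  · haveI := Fact.mk hq
    obtain rfl : p = q := by_contra fun e' => h.ep.ne_bot two_ne_zero (eq_bot_iff.2
      (inf_eq_bot_of_coprime_card (coprime_of_isPGroup_ne (Op_isPGroup p M) (Op_isPGroup q M) e') ▸
        h.ep.le.trans (le_inf le_rfl ((le_inf (Op_le p M) (Op_le_cent_Op e' M)).trans e))))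
    exact hn (h.smp.norm_eq h.max (GW.puig_normal h.p2 (fun Q _ => h.ab2 Q) e hP) h0).le

/-- the uniqueness theorem for good noncyclic subgroups -/
theorem uniq (hE : IsEp p 2 E M) (hg : ∀ b ∈ E, b ≠ 1 → 𝐂[b] ≤ M) (hH : H ≠ ⊤) (hEH : E ≤ H) :
    H ≤ M := by
  by_contra hn
  obtain ⟨Y, ⟨hEY, hYM, hY, hex⟩, hmax⟩ := exists_maximal_of_wellFoundedGT
    (fun Y => E ≤ Y ∧ Y ≤ M ∧ IsPGroup p Y ∧ ∃ H, H ≠ ⊤ ∧ Y ≤ H ∧ ¬ H ≤ M)
    ⟨E, le_rfl, hE.le, hE.isPGroup, H, hH, hEH, hn⟩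
  obtain ⟨H, ⟨hH, hYH, hn⟩, hmin⟩ := exists_minimal_of_wellFoundedLT _ hex
  have h0 : Y ≠ ⊥ := fun e => hE.ne_bot two_ne_zero (eq_bot_iff.2 (e ▸ hEY))
  have hsyl : ∀ H, H ≠ ⊤ → Y ≤ H → ¬ H ≤ M → Syl p Y (M ⊓ H) := fun H h1 h2 h3 =>
    syl_of_max (le_inf hYM h2) hY fun U h4 h5 h6 => (hmax ⟨hEY.trans h4, h5.trans inf_le_left, h6,
      H, h1, h5.trans inf_le_right, h3⟩ h4).antisymm h4
  have h1 : 𝐍(Zc (puig Y)) ≤ M := by_contra fun e => e (h.normZ (Coprime.IsSylowIn.of_syl_norm hYM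
    ((hsyl _ (h.norm_ne_top (fun e => h0 (trivg_center_Puig_pgroup hY e)) ((ZL_le Y).trans hYM))
      ((le_norm_self Y).trans (norm_le_norm_center_puig Y)) e).hall.mono
        (le_inf hYM (le_norm_self Y)) (inf_le_inf_left M (norm_le_norm_center_puig Y))).syl))
  have h2 := (norm_le_norm_center_puig Y).trans h1
  have h3 := hsyl H hH hYH hn
  have h4 : Syl p Y H := Coprime.IsSylowIn.of_syl_norm hYH (h3.hall.mono (le_inf hYH (le_norm_self Y))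
    (le_inf (inf_le_right.trans h2) inf_le_left)).syl
  by_cases hs : Sol H
  · refine hn (factorisation (h.stb hs) h4 ▸ sup_le ?_ (inf_le_right.trans h1))
    exact Coprime.le_of_forall_centralizer_le hE.ab (hE.not_isCyclic le_rfl)
      ((hEY.trans hYH).trans (Opi_normal _ H).norm) (coprime_of_isPGroup hE.isPGroup (Op'_piGrp p H))
      fun b hb b1 => inf_le_right.trans (hg b hb b1)
  obtain ⟨V, hVH, hV, hV4⟩ := exists_four h.ab2 hs
  obtain ⟨c, -, hc⟩ := se_conj_le h.se le_top le_top (abelem_isPGroup hV)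
  obtain ⟨X, h5, h6, h7⟩ := (k1 h.khyp h.ab2 (se_conj h.se c⁻¹) (sol_conj.2 h.sol) hH hV hV4
    (conj_le_iff_le_inv_conj.1 hc) hVH fun e => hs (sol_of_le (sol_conj.2 h.sol) e)).2.2 p hp.out
      h.p2 Y hYH hY
  have h8 : X ≤ M := by_contra fun e =>
    h5.not_ge (hmin ⟨fun e => h5.not_ge (e ▸ le_top), h6, e⟩ h5.le)
  obtain ⟨d, hd, h9⟩ := conj_le_of_even h.se (h7.trans (card_dvd (le_inf h8 h5.le))) hVH
    (abelem_isPGroup hV)
  obtain ⟨g, hg, hgM, e⟩ := (k1 h.khyp h.ab2 h.se h.sol hH (abelem_conj.2 hV) (by rwa [card_conj])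
    h9 (conj_le_of_mem hd hVH) hn).2.1 p hp.out h.p2 Y h3.le hY
  obtain ⟨m, hm, e'⟩ := h3.exists_conj' (h3.of_card_eq (le_inf (le_conj_iff_inv_conj_le.1 e)
    (conj_le_of_mem (inv_mem hg) hYH)) (card_conj _ _))
  refine hgM ((M.mul_mem_cancel_right hm.1).1 (h2 ?_))
  rw [← conj_eq_self_iff, ← conj_conj, ← e', conj_inv_conj]

omit h in
theorem exists_two (hE : IsEp p 3 E P) (hW : IsEp p 2 Y P) (hn : Y ⊴ P) :
    ∃ U, IsEp p 2 U (E ⊓ 𝐂(Y)) := by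
  have h1 := logn_quotient_cent_abelem (hE.le.trans hn.norm) hW.abelem hW.card.le
  obtain ⟨n, h2⟩ := exists_isEp_of_abelem (abelem_of_le hE.abelem (inf_le_left : E ⊓ 𝐂(Y) ≤ E)) le_rfl
  refine h2.exists_le (by_contra fun e => h1 ?_)
  have h3 := card_mul_relIndex (inf_le_left : E ⊓ 𝐂(Y) ≤ E)
  rw [h2.card, hE.card, show 3 = n + (3 - n) by omega, pow_add] at h3
  rw [Nat.eq_of_mul_eq_mul_left (pow_pos hp.out.pos n) h3]
  exact pow_dvd_pow p (by omega)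

/-- the uniqueness theorem for subgroups of rank three -/
theorem uniq3 (hF : IsEp p 3 F (Op p M)) (hB : B ≤ F) (hE : IsEp p 3 E M) (hH : H ≠ ⊤)
    (hEH : E ≤ H) : H ≤ M := by
  have hc : ∀ x : G, x ≠ 1 → x ∈ M → 𝐂[x] ≠ ⊤ := fun x x1 hx e => h.norm_ne_top
    (zpowers_ne_bot.2 x1) (zpowers_le.2 hx) (eq_top_iff.2 (e ▸ cent_zpowers x ▸ cent_le_norm _))
  have step : ∀ {U W}, IsEp p 2 U M → (∀ b ∈ U, b ≠ 1 → 𝐂[b] ≤ M) → W ≤ M → W ≤ 𝐂(U) →
      ∀ b ∈ W, b ≠ 1 → 𝐂[b] ≤ M := fun hU hg hW hWU b hb b1 =>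
    h.uniq hU hg (hc b b1 (hW hb)) (le_cent1_iff.2 (hWU hb))
  obtain ⟨P, hP, hEP⟩ := exists_syl_ge hE.le hE.isPGroup
  obtain ⟨W, hW, hn⟩ := odd_normal_p2Elem_exists hP.isPGroup (GW.odd_of_isPGroup h.p2 hP.isPGroup)
    fun e => hE.not_isCyclic (by norm_num) (isCyclic_of_le' e hEP)
  obtain ⟨U₁, h1⟩ := exists_two (hF.mono (Op_le_syl hP)) hW hn
  obtain ⟨U₂, h2⟩ := exists_two (hE.of_le hEP) hW hn
  have hFM := hF.le.trans (Op_le p M)
  have h3 := step (h.ep.mono (Op_le p M)) h.good hFM (hF.le_cent.trans (cent_anti hB))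
  have h4 := step (h1.mono (inf_le_left.trans hFM)) (fun b hb => h3 b (h1.le hb).1)
    (hW.le.trans hP.le) (le_cent_symm (h1.le.trans inf_le_right))
  exact h.uniq (h2.mono (inf_le_left.trans hE.le)) (step (hW.mono hP.le) h4
    (h2.le.trans (inf_le_left.trans hE.le)) (h2.le.trans inf_le_right)) hH
    ((h2.le.trans inf_le_left).trans hEH)

end UH

end Cfsg.Agent.SE
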